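import Mathlib.AlgebraicGeometry.Morphisms.UniversallyOpen
import Mathlib.AlgebraicGeometry.Morphisms.UniversallyClosed
import Mathlib.CategoryTheory.Limits.Constructions.Over.Connected
import Groth.Prelude.Def_SGA1
import Groth.Prelude.Def_Flat
import Groth.Agent.AlgSpLib.Points

/-!
# Representable morphisms with a universal topological property, on points
-/

set_option backward.isDefEq.respectTransparency false
set_option backward.isDefEq.respectTransparency.types false

universe u

open CategoryTheory CategoryTheory.Limits AlgebraicGeometry Opposite AlgSp Topology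

namespace Groth.Agent.AlgSpPts

open Groth.Agent.AlgSpLib

variable {S : Scheme.{u}} {F G : Sp S}

/-- A point over the image of a point of a test scheme lifts to the pulled back scheme. -/
theorem exists_lift {U V : Over S} {f : F ⟶ G} {g : (yon S).obj U ⟶ G} {fst : (yon S).obj V ⟶ F}
    {snd : V ⟶ U} (sq : IsPullback fst ((yon S).map snd) f g) {x : Points F} {t : ↥U.left}
    (h : Points.map f x = Points.ofPt g t) : ∃ v, Points.ofPt fst v = x ∧ snd.left v = t := by
  rw [Points.ofPt_eq_map_ofScheme] at h
  obtain ⟨z, hz₁, hz₂⟩ := exists_point_of_isPullback sq h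
  obtain ⟨v, rfl⟩ := (Points.schemeEquiv V).surjective z
  refine ⟨v, (Points.ofPt_eq_map_ofScheme fst v).trans hz₁, (Points.schemeEquiv U).injective ?_⟩
  change Points.ofScheme U (snd.left v) = Points.ofScheme U t
  rw [← hz₂]
  change Points.ofPt (𝟙 _) (snd.left v) = Points.map _ (Points.ofPt (𝟙 _) v)
  rw [Points.map_ofPt, Category.id_comp, ← ofPt_comp, Category.comp_id]

theorem map_ofPt_fst {U V : Over S} {f : F ⟶ G} {g : (yon S).obj U ⟶ G} {fst : (yon S).obj V ⟶ F}
    {snd : V ⟶ U} (sq : IsPullback fst ((yon S).map snd) f g) (v : ↥V.left) :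
    Points.map f (Points.ofPt fst v) = Points.ofPt g (snd.left v) := by
  rw [Points.map_ofPt, sq.w, ofPt_comp]

theorem preimage_image {U V : Over S} {f : F ⟶ G} {g : (yon S).obj U ⟶ G}
    {fst : (yon S).obj V ⟶ F} {snd : V ⟶ U} (sq : IsPullback fst ((yon S).map snd) f g)
    (A : Set (Points F)) :
    Points.ofPt g ⁻¹' (Points.map f '' A) = snd.left '' (Points.ofPt fst ⁻¹' A) := by
  ext t
  constructor
  · rintro ⟨x, hx, hxt⟩
    obtain ⟨v, rfl, rfl⟩ := exists_lift sq hxt
    exact ⟨v, hx, rfl⟩
  · rintro ⟨v, hv, rfl⟩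
    exact ⟨_, hv, map_ofPt_fst sq v⟩

theorem isClosed_of_forall {W : Set (Points F)}
    (h : ∀ (T : Over S) (g : (yon S).obj T ⟶ F), IsClosed (Points.ofPt g ⁻¹' W)) : IsClosed W :=
  ⟨Points.isOpen_iff.2 fun T g => by rw [Set.preimage_compl]; exact (h T g).isOpen_compl⟩

theorem isOpenMap_map {f : F ⟶ G} (hf : RepWith @UniversallyOpen f) : IsOpenMap (Points.map f) :=
  fun A hA => Points.isOpen_iff.2 fun U g => by
    have : UniversallyOpen (hf.rep.snd g).left := hf.property_snd g
    rw [preimage_image (hf.rep.isPullback g) A]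
    exact (hf.rep.snd g).left.isOpenMap _ (hA.preimage (Points.continuous_ofPt _))

theorem isClosedMap_map {f : F ⟶ G} (hf : RepWith @UniversallyClosed f) :
    IsClosedMap (Points.map f) :=
  fun A hA => isClosed_of_forall fun U g => by
    have : UniversallyClosed (hf.rep.snd g).left := hf.property_snd g
    rw [preimage_image (hf.rep.isPullback g) A]
    exact (hf.rep.snd g).left.isClosedMap _ (hA.preimage (Points.continuous_ofPt _))

theorem injective_map {f : F ⟶ G}
    (hf : RepWith (fun X Y (h : X ⟶ Y) => Function.Injective h) f) :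
    Function.Injective (Points.map f) := by
  intro x y h
  obtain ⟨T, g, t, -, ht⟩ := exists_ofPt_eq (Points.map f x)
  obtain ⟨v, rfl, hv⟩ := exists_lift (hf.rep.isPullback g) ht.symm
  obtain ⟨w, rfl, hw⟩ := exists_lift (hf.rep.isPullback g) (h.symm.trans ht.symm)
  rw [hf.property_snd g (hv.trans hw.symm)]

theorem isQuotientMap_map {f : F ⟶ G} (hf : RepWith SGA1.UnivSubmersive f) :
    IsQuotientMap (Points.map f) := by
  have key : ∀ ⦃U : Over S⦄ (g : (yon S).obj U ⟶ G), IsQuotientMap (hf.rep.snd g).left := fun U g =>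
    MorphismProperty.universally_le _ _ (hf.property_snd g)
  refine (isQuotientMap_iff _).2 ⟨isCoinducing_iff.2 fun W => ⟨fun h => Points.isOpen_iff.2 fun U g => ?_,
    fun h => h.preimage (Points.continuous_map f)⟩, fun y => ?_⟩
  swap
  · obtain ⟨T, g, t, -, rfl⟩ := exists_ofPt_eq y
    obtain ⟨v, hv⟩ := (key g).surjective t
    exact ⟨Points.ofPt (hf.rep.fst g) v, (map_ofPt_fst (hf.rep.isPullback g) v).trans (by rw [hv])⟩
  · refine (key g).isOpen_preimage.1 ?_
    have e : (hf.rep.snd g).left ⁻¹' (Points.ofPt g ⁻¹' W) =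
        Points.ofPt (hf.rep.fst g) ⁻¹' (Points.map f ⁻¹' W) := by
      ext v
      simp only [Set.mem_preimage, map_ofPt_fst (hf.rep.isPullback g) v]
    rw [e]
    exact h.preimage (Points.continuous_ofPt _)

theorem isHomeomorph_map {f : F ⟶ G} (hf : RepWith FlatMor.IsUnivHomeo f) :
    IsHomeomorph (Points.map f) := by
  have key : FlatMor.IsUnivHomeo ≤ @UniversallyOpen := by
    rw [UniversallyOpen.eq]
    exact MorphismProperty.universally_mono fun _ _ _ h => h.isOpenMap
  refine ⟨Points.continuous_map f, isOpenMap_map (repWith_mono key _ hf),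
    injective_map ⟨hf.rep, fun _ _ g fst snd sq => ?_⟩, surjective_map_of_repWith ⟨hf.rep, fun _ _ g fst snd sq => ?_⟩⟩
  · exact (MorphismProperty.universally_le _ _ (hf.property _ _ _ sq)).bijective.1
  · exact ⟨(MorphismProperty.universally_le _ _ (hf.property _ _ _ sq)).bijective.2⟩

/-- The shape of all the "representable ⇒ universal" statements. -/
theorem univSp_of_repWith {P : MorphismProperty Scheme.{u}} {Q : MorphismProperty (Sp S)}
    (h : ∀ ⦃A B : Sp S⦄ (g : A ⟶ B), RepWith P g → Q g) {f : F ⟶ G} (hf : RepWith P f) :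
    UnivSp Q f :=
  fun _ _ _ _ _ _ sq => h _ (repWith_of_isPullback sq hf)

/-- A universal property of a representable morphism holds of all scheme pullbacks, universally. -/
theorem repWith_universally_of_univSp {P : MorphismProperty Scheme.{u}} {Q : MorphismProperty (Sp S)}
    (h : ∀ ⦃V U : Over S⦄ (g : V ⟶ U), Q ((yon S).map g) → P g.left) {f : F ⟶ G}
    (hr : Representable f) (hf : UnivSp Q f) : RepWith P.universally f := by
  refine ⟨hr, fun U V g fst snd sq X' Y' i₁ i₂ f' sq' => ?_⟩
  let U' : Over S := Over.mk (i₂ ≫ U.hom)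
  let V' : Over S := Over.mk (i₁ ≫ V.hom)
  let a : V' ⟶ V := Over.homMk i₁ rfl
  let b : U' ⟶ U := Over.homMk i₂ rfl
  let c : V' ⟶ U' := Over.homMk f' (by
    change f' ≫ i₂ ≫ U.hom = i₁ ≫ V.hom
    exact (Category.assoc f' i₂ U.hom).symm.trans
      ((congrArg (· ≫ U.hom) sq'.w).trans ((Category.assoc i₁ snd.left U.hom).trans
        (congrArg (i₁ ≫ ·) (Over.w snd)))))
  have sqO : IsPullback a c snd b := by
    refine IsPullback.of_map (Over.forget S) (Over.OverMorphism.ext sq'.w.symm) ?_
    exact sq'.flip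
  exact h c (hf (IsAlgSpace.yon_obj U') _ _ _ ((sqO.map (yon S)).paste_horiz sq))

/-- The topological map underlying a morphism of schemes, from the one on points. -/
theorem left_eq_conj {V U : Over S} (g : V ⟶ U) :
    (g.left : ↥V.left → ↥U.left) =
      (Points.schemeHomeo U).symm ∘ Points.map ((yon S).map g) ∘ Points.schemeHomeo V := by
  funext v
  simp only [Function.comp_apply, Points.map_yon_map_apply, Homeomorph.symm_apply_apply]

end Groth.Agent.AlgSpPts
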