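import Mathlib.AlgebraicGeometry.Morphisms.QuasiCompact
import Mathlib.AlgebraicGeometry.Noetherian
import Groth.Agent.AlgSpLib.LocP
import Groth.Agent.AlgSpPts.Univ

/-!
# Quasi-compactness through points, cancellation of etale local properties
-/

set_option backward.isDefEq.respectTransparency false
set_option backward.isDefEq.respectTransparency.types false

universe u

open CategoryTheory CategoryTheory.Limits AlgebraicGeometry Opposite AlgSp Topology

namespace Groth.Agent.AlgSpPts

open Groth.Agent.AlgSpLib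

variable {S : Scheme.{u}} {F G : Sp S}

instance : IsEtLocal (@UniversallyOpen : MorphismProperty Scheme.{u}) where
  precomp _ _ _ _ := inferInstance
  postcomp _ _ _ _ := inferInstance
  of_precomp {X Y Z} f g _ _ h := by
    refine ⟨fun X' Y' i₁ i₂ g' sq => ?_⟩
    intro A hA
    have sq' := (IsPullback.of_hasPullback f i₁)
    have hopen : IsOpenMap (pullback.snd f i₁ ≫ g') :=
      h.universally_isOpenMap _ _ _ (sq'.flip.paste_horiz sq)
    have : Surjective (pullback.snd f i₁) := inferInstance
    have e : g' '' A = (pullback.snd f i₁ ≫ g') '' (pullback.snd f i₁ ⁻¹' A) := by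
      rw [Scheme.Hom.comp_base, TopCat.coe_comp, Set.image_comp,
        Set.image_preimage_eq _ (pullback.snd f i₁).surjective]
    rw [e]
    exact hopen _ (hA.preimage (pullback.snd f i₁).continuous)

theorem isQuasiCompactSp_iff (hF : IsAlgSpace F) :
    IsQuasiCompactSp F ↔ CompactSpace (Points F) := by
  constructor
  · rintro ⟨U, p, he, hs, (hU : CompactSpace ↥U.left)⟩
    exact ⟨(surjective_ofPt hs).range_eq ▸ isCompact_range (Points.continuous_ofPt p)⟩
  · intro h
    obtain ⟨U, p, he, hs⟩ := hF.atlas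
    have hcov : ∀ x : Points F, ∃ W : U.left.affineOpens, x ∈ Points.ofPt p '' (W : Set ↥U.left) := by
      intro x
      obtain ⟨u, rfl⟩ := surjective_ofPt hs x
      obtain ⟨W, hW, hu, -⟩ := exists_isAffineOpen_mem_and_subset (U := (⊤ : U.left.Opens)) (x := u) trivial
      exact ⟨⟨W, hW⟩, u, hu, rfl⟩
    choose W hW using hcov
    obtain ⟨t, ht⟩ := CompactSpace.isCompact_univ.elim_finite_subcover
      (fun x => Points.ofPt p '' (W x : Set ↥U.left))
      (fun x => isOpenMap_ofPt he _ (W x).1.isOpen) fun x _ => Set.mem_iUnion.2 ⟨x, hW x⟩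
    let O : U.left.Opens := ⨆ x ∈ t, (W x).1
    have hO : IsCompact (O : Set ↥U.left) := by
      simp only [O, TopologicalSpace.Opens.coe_iSup]
      exact t.isCompact_biUnion fun x _ => (W x).2.isCompact
    let ι : Over.mk (O.ι ≫ U.hom) ⟶ U := Over.homMk O.ι rfl
    have he' : RepWith @Etale ((yon S).map ι ≫ p) :=
      repWith_comp ((repWith_yon_map_iff _ ι).2 (inferInstanceAs (Etale O.ι))) he
    refine ⟨Over.mk (O.ι ≫ U.hom), _, he', ?_, isCompact_iff_compactSpace.1 hO⟩
    refine repWith_surjective_of_surjective he'.rep fun x => ?_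
    obtain ⟨y, hy, hx⟩ := Set.mem_iUnion₂.1 (ht (Set.mem_univ x))
    obtain ⟨u, hu, hux⟩ := hx
    have huO : u ∈ Set.range O.ι := by
      rw [Scheme.Opens.range_ι]
      exact (le_iSup₂ (f := fun x (_ : x ∈ t) => (W x).1) y hy) hu
    obtain ⟨v, hv⟩ := huO
    refine ⟨Points.ofPt (𝟙 _) v, ?_⟩
    rw [Points.map_ofPt, Category.id_comp, ofPt_comp]
    exact (congrArg (Points.ofPt p) hv).trans hux

theorem isQuasiCompactSp_yon_iff (U : Over S) :
    IsQuasiCompactSp ((yon S).obj U) ↔ CompactSpace ↥U.left := by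
  rw [isQuasiCompactSp_iff (IsAlgSpace.yon_obj U)]
  exact ⟨fun _ => (Points.schemeHomeo U).symm.compactSpace, fun _ => (Points.schemeHomeo U).compactSpace⟩

theorem isQuasiCompactMor_of_repWith {f : F ⟶ G} (hf : RepWith @QuasiCompact f) :
    IsQuasiCompactMor f := by
  intro Z Z' _ hqc g fst snd sq
  obtain ⟨U, p, he, hs, (hU : CompactSpace ↥U.left)⟩ := hqc
  have h := repWith_of_isPullback sq hf
  have : QuasiCompact (h.rep.snd p).left := h.property_snd p
  refine ⟨h.rep.pullback p, h.rep.fst p, repWith_of_isPullback (h.rep.isPullback p).flip he,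
    repWith_of_isPullback (h.rep.isPullback p).flip hs, QuasiCompact.compactSpace_of_compactSpace (h.rep.snd p).left⟩

/-- Cancellation for an etale local property satisfying cancellation for schemes. -/
theorem locP_of_comp' {P Q : MorphismProperty Scheme.{u}} [IsEtLocal P]
    (hP : ∀ {X Y Z : Scheme.{u}} (f : X ⟶ Y) (g : Y ⟶ Z), P (f ≫ g) → Q g → P f)
    {H : Sp S} (hH : IsAlgSpace H) {f : F ⟶ G} {g : G ⟶ H} (h : LocP P (f ≫ g)) (hg : LocP Q g) :
    LocP P f := by
  intro U V a b k ha hb w
  obtain ⟨W, c, hc, hc'⟩ := hH.atlas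
  let e : hc.rep.pullback (b ≫ g) ⟶ V := hc.rep.snd (b ≫ g)
  let d : hc.rep.pullback (b ≫ g) ⟶ W := hc.rep.fst' (b ≫ g)
  have he : Etale e.left := hc.property_snd (b ≫ g)
  have hes : Surjective e.left := hc'.property _ _ _ (hc.rep.isPullback (b ≫ g))
  let U' := Limits.pullback k e
  let p : U' ⟶ U := pullback.fst k e
  let q : U' ⟶ hc.rep.pullback (b ≫ g) := pullback.snd k e
  have sq := (IsPullback.of_hasPullback k e).map (Over.forget S)
  have hp : Etale p.left := MorphismProperty.of_isPullback sq.flip he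
  have hps : Surjective p.left := MorphismProperty.of_isPullback sq.flip hes
  have h1 : P (q ≫ d).left := by
    refine h ((yon S).map p ≫ a) c (q ≫ d) (repWith_comp ((repWith_yon_map_iff _ p).2 hp) ha) hc ?_
    simp only [Category.assoc, Functor.map_comp]
    rw [← Category.assoc a f, w]
    have h2 : (yon S).map d ≫ c = (yon S).map e ≫ b ≫ g := by
      rw [Functor.relativelyRepresentable.map_fst', hc.rep.w]
    rw [h2, Category.assoc, ← Category.assoc ((yon S).map p), ← Functor.map_comp,
      ← Category.assoc ((yon S).map q), ← Functor.map_comp, pullback.condition]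
  refine IsEtLocal.of_precomp p.left k.left hp hps ?_
  rw [← Over.comp_left, pullback.condition, Over.comp_left]
  refine IsEtLocal.postcomp _ _ (hP _ d.left (by rwa [← Over.comp_left]) ?_) he
  refine hg ((yon S).map e ≫ b) c d (repWith_comp ((repWith_yon_map_iff _ e).2 he) hb) hc ?_
  rw [Category.assoc, Functor.relativelyRepresentable.map_fst', hc.rep.w]

theorem locP_of_comp {P : MorphismProperty Scheme.{u}} [IsEtLocal P]
    (hP : ∀ {X Y Z : Scheme.{u}} (f : X ⟶ Y) (g : Y ⟶ Z), P (f ≫ g) → P f)
    {H : Sp S} (hH : IsAlgSpace H) {f : F ⟶ G} {g : G ⟶ H} (h : LocP P (f ≫ g)) : LocP P f :=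
  locP_of_comp' (Q := ⊤) (fun a b hab _ => hP a b hab) hH h fun _ _ _ _ _ _ _ _ => trivial

/-- A morphism that is universally open on charts is universally open. -/
theorem isUnivOpenMor_of_locP {f : F ⟶ G} (hF : IsAlgSpace F) (hG : IsAlgSpace G)
    (hf : LocP @UniversallyOpen f) : IsUnivOpenMor f := by
  intro Z Z' hZ g fst snd sq
  have hZ' : IsAlgSpace Z' := isAlgSpace_of_isPullback sq hF hZ hG
  have h := locP_of_isPullback sq hF hG hZ hf
  obtain ⟨U, V, a, b, k, ha, ha', hb, hb', w⟩ := exists_chart hZ' hZ snd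
  have : UniversallyOpen k.left := h a b k ha hb w
  intro A hA
  have e : Points.map snd '' A = Points.ofPt b '' (k.left '' (Points.ofPt a ⁻¹' A)) := by
    conv_lhs => rw [← Set.image_preimage_eq A (surjective_ofPt ha')]
    rw [← Set.image_comp, ← Set.image_comp]
    refine Set.image_congr fun u _ => ?_
    change Points.map snd (Points.ofPt a u) = Points.ofPt b (k.left u)
    rw [Points.map_ofPt, w, ofPt_comp]
  rw [e]
  exact isOpenMap_ofPt hb _ (k.left.isOpenMap _ (hA.preimage (Points.continuous_ofPt a)))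

end Groth.Agent.AlgSpPts
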