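import Mathlib.AlgebraicGeometry.Morphisms.Separated
import Mathlib.AlgebraicGeometry.Morphisms.FinitePresentation
import Groth.Agent.AlgSpLib.EtLocalInst
import Groth.Agent.AlgSpLib.Covers
import Groth.Agent.AlgSpPts.Misc

/-!
# Diagonals, separated and proper morphisms: formal properties
-/

set_option backward.isDefEq.respectTransparency false
set_option backward.isDefEq.respectTransparency.types false

universe u

open CategoryTheory CategoryTheory.Limits AlgebraicGeometry Opposite AlgSp

namespace Groth.Agent.AlgSpPts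

open Groth.Agent.AlgSpLib

variable {S : Scheme.{u}} {F G H : Sp S}

theorem locP_id {P : MorphismProperty Scheme.{u}} [IsEtLocal P] [P.IsMultiplicative] (F : Sp S) :
    LocP P (𝟙 F) :=
  locP_of_repWith (repWith_of_isIso P (𝟙 F))

/-- The diagonal has a property `P` etale locally when identities have it and `P` cancels. -/
theorem locP_diagonal {P : MorphismProperty Scheme.{u}} [IsEtLocal P] [P.IsMultiplicative]
    (hP : ∀ {X Y Z : Scheme.{u}} (f : X ⟶ Y) (g : Y ⟶ Z), P (f ≫ g) → P f)
    (hF : IsAlgSpace F) (f : F ⟶ G) : LocP P (pullback.diagonal f) :=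
  locP_of_comp hP hF (g := pullback.fst f f) (by rw [pullback.diagonal_fst]; exact locP_id F)

/-- Representable monomorphisms are monomorphisms on every pullback to schemes. -/
theorem repWith_monomorphisms_of_mono {f : F ⟶ G} (hr : Representable f) [Mono f] :
    RepWith (MorphismProperty.monomorphisms Scheme.{u}) f := by
  refine ⟨hr, fun U V g fst snd sq => ?_⟩
  have h1 : Mono ((yon S).map snd) :=
    MorphismProperty.of_isPullback (P := MorphismProperty.monomorphisms (Sp S)) sq ‹_›
  have : Mono snd := (yon S).mono_of_mono_map h1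
  exact inferInstanceAs (Mono snd.left)

theorem repWith_diagonal_monomorphisms (hF : IsAlgSpace F) (f : F ⟶ G) :
    RepWith (MorphismProperty.monomorphisms Scheme.{u}) (pullback.diagonal f) :=
  repWith_monomorphisms_of_mono (AlgSpLib.representable_diagonal hF f)

instance : (@LocallyQuasiFinite ⊓ @LocallyOfFiniteType :
    MorphismProperty Scheme.{u}).IsMultiplicative where
  id_mem X := ⟨inferInstance, inferInstance⟩
  comp_mem f g hf hg := by
    obtain ⟨_, _⟩ := hf
    obtain ⟨_, _⟩ := hg
    exact ⟨inferInstance, inferInstance⟩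

instance : (@LocallyOfFiniteType ⊓ @FormallyUnramified :
    MorphismProperty Scheme.{u}).IsMultiplicative where
  id_mem X := ⟨inferInstance, inferInstance⟩
  comp_mem f g hf hg := by
    obtain ⟨_, _⟩ := hf
    obtain ⟨_, _⟩ := hg
    exact ⟨inferInstance, MorphismProperty.comp_mem _ f g inferInstance inferInstance⟩

/-- The diagonal of a morphism of algebraic spaces is representable, locally quasi-finite, locally of
finite type, separated and a monomorphism. -/
theorem diagonal_package (hF : IsAlgSpace F) (hG : IsAlgSpace G) (f : F ⟶ G) :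
    Representable (pullback.diagonal f) ∧
    RepWith @LocallyOfFiniteType (pullback.diagonal f) ∧
    RepWith (@LocallyQuasiFinite ⊓ @LocallyOfFiniteType) (pullback.diagonal f) ∧
    RepWith @IsSeparated (pullback.diagonal f) ∧
    RepWith (MorphismProperty.monomorphisms Scheme.{u}) (pullback.diagonal f) := by
  have hr := AlgSpLib.representable_diagonal hF f
  have hq : RepWith (@LocallyQuasiFinite ⊓ @LocallyOfFiniteType) (pullback.diagonal f) := by
    refine repWith_of_locP (isAlgSpace_pullback hF hF hG f f) hr (locP_diagonal (fun a b h => ?_) hF f)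
    obtain ⟨_, _⟩ := h
    exact ⟨LocallyQuasiFinite.of_comp a b, locallyOfFiniteType_of_comp a b⟩
  have hm := repWith_diagonal_monomorphisms hF f
  exact ⟨hr, repWith_mono inf_le_right _ hq, hq,
    repWith_mono (fun _ _ g (_ : Mono g) => (inferInstance : IsSeparated g)) _ hm, hm⟩

theorem isSeparatedMor_comp {f : F ⟶ G} {g : G ⟶ H} (hf : IsSeparatedMor f) (hg : IsSeparatedMor g) :
    IsSeparatedMor (f ≫ g) :=
  MorphismProperty.comp_mem (RepWith (S := S) @IsClosedImmersion).diagonal f g hf hg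

theorem isQuasiSeparatedMor_comp {f : F ⟶ G} {g : G ⟶ H} (hf : IsQuasiSeparatedMor f)
    (hg : IsQuasiSeparatedMor g) : IsQuasiSeparatedMor (f ≫ g) :=
  MorphismProperty.comp_mem (RepWith (S := S) @QuasiCompact).diagonal f g hf hg

theorem isSeparatedMor_of_isPullback {P : Sp S} {fst : P ⟶ F} {snd : P ⟶ H} {f : F ⟶ G} {g : H ⟶ G}
    (sq : IsPullback fst snd f g) (hf : IsSeparatedMor f) : IsSeparatedMor snd :=
  MorphismProperty.of_isPullback (P := (RepWith (S := S) @IsClosedImmersion).diagonal) sq hf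

theorem isQuasiSeparatedMor_of_isPullback {P : Sp S} {fst : P ⟶ F} {snd : P ⟶ H} {f : F ⟶ G}
    {g : H ⟶ G} (sq : IsPullback fst snd f g) (hf : IsQuasiSeparatedMor f) : IsQuasiSeparatedMor snd :=
  MorphismProperty.of_isPullback (P := (RepWith (S := S) @QuasiCompact).diagonal) sq hf

theorem univSp_of_isPullback {Q : MorphismProperty (Sp S)} {P : Sp S} {fst : P ⟶ F} {snd : P ⟶ H}
    {f : F ⟶ G} {g : H ⟶ G} (sq : IsPullback fst snd f g) (hf : UnivSp Q f) : UnivSp Q snd :=
  fun _ _ hZ k fst' snd' sq' => hf hZ (k ≫ g) (fst' ≫ fst) snd' (sq'.paste_horiz sq)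

/-- Factor a base change of a composite. -/
theorem exists_isPullback_comp {f : F ⟶ G} {g : G ⟶ H} {Z Z' : Sp S} {k : Z ⟶ H} {fst : Z' ⟶ F}
    {snd : Z' ⟶ Z} (sq : IsPullback fst snd (f ≫ g) k) :
    ∃ (l : Z' ⟶ pullback g k), l ≫ pullback.snd g k = snd ∧ IsPullback fst l f (pullback.fst g k) := by
  refine ⟨pullback.lift (fst ≫ f) snd (by simpa using sq.w), pullback.lift_snd _ _ _, ?_⟩
  refine IsPullback.of_bot ?_ (pullback.lift_fst _ _ _).symm (IsPullback.of_hasPullback g k)
  rw [pullback.lift_snd]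
  exact sq

theorem univSp_comp {Q : MorphismProperty (Sp S)} [Q.IsStableUnderComposition] {f : F ⟶ G} {g : G ⟶ H}
    (hG : IsAlgSpace G) (hH : IsAlgSpace H) (hf : UnivSp Q f) (hg : UnivSp Q g) : UnivSp Q (f ≫ g) := by
  intro Z Z' hZ k fst snd sq
  obtain ⟨l, hl, sq'⟩ := exists_isPullback_comp sq
  rw [← hl]
  exact Q.comp_mem _ _ (hf (isAlgSpace_pullback hG hZ hH g k) _ _ _ sq')
    (hg hZ k _ _ (IsPullback.of_hasPullback g k))

instance : (IsClosedMor (S := S)).IsStableUnderComposition :=
  ⟨fun f g hf hg => by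
    change IsClosedMap (Points.map (f ≫ g))
    rw [show Points.map (f ≫ g) = Points.map g ∘ Points.map f from funext (Points.map_comp f g)]
    exact IsClosedMap.comp hg hf⟩

theorem isUnivClosedMor_comp {f : F ⟶ G} {g : G ⟶ H} (hG : IsAlgSpace G) (hH : IsAlgSpace H)
    (hf : IsUnivClosedMor f) (hg : IsUnivClosedMor g) : IsUnivClosedMor (f ≫ g) :=
  univSp_comp hG hH hf hg

theorem isQuasiCompactMor_comp {f : F ⟶ G} {g : G ⟶ H} (hG : IsAlgSpace G) (hH : IsAlgSpace H)
    (hf : IsQuasiCompactMor f) (hg : IsQuasiCompactMor g) : IsQuasiCompactMor (f ≫ g) := by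
  intro Z Z' hZ hqc k fst snd sq
  obtain ⟨l, -, sq'⟩ := exists_isPullback_comp sq
  exact hf (isAlgSpace_pullback hG hZ hH g k) (hg hZ hqc k _ _ (IsPullback.of_hasPullback g k)) _ _ _ sq'

theorem isQuasiCompactMor_of_isPullback {P : Sp S} {fst : P ⟶ F} {snd : P ⟶ H} {f : F ⟶ G} {g : H ⟶ G}
    (sq : IsPullback fst snd f g) (hf : IsQuasiCompactMor f) : IsQuasiCompactMor snd :=
  fun _ _ hZ hqc k fst' snd' sq' => hf hZ hqc (k ≫ g) (fst' ≫ fst) snd' (sq'.paste_horiz sq)

theorem isProperMor_comp {f : F ⟶ G} {g : G ⟶ H} (hF : IsAlgSpace F) (hG : IsAlgSpace G)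
    (hH : IsAlgSpace H) (hf : IsProperMor f) (hg : IsProperMor g) : IsProperMor (f ≫ g) :=
  ⟨isSeparatedMor_comp hf.1 hg.1,
    ⟨locP_comp hF hG hH hf.2.1.1 hg.2.1.1, isQuasiCompactMor_comp hG hH hf.2.1.2 hg.2.1.2⟩,
    isUnivClosedMor_comp hG hH hf.2.2 hg.2.2⟩

theorem isProperMor_of_isPullback {P : Sp S} {fst : P ⟶ F} {snd : P ⟶ H} {f : F ⟶ G} {g : H ⟶ G}
    (sq : IsPullback fst snd f g) (hF : IsAlgSpace F) (hG : IsAlgSpace G) (hH : IsAlgSpace H)
    (hf : IsProperMor f) : IsProperMor snd :=
  ⟨isSeparatedMor_of_isPullback sq hf.1,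
    ⟨locP_of_isPullback sq hF hG hH hf.2.1.1, isQuasiCompactMor_of_isPullback sq hf.2.1.2⟩,
    univSp_of_isPullback sq hf.2.2⟩

/-- A representable morphism with closed immersion pullbacks is proper. -/
theorem isProperMor_of_closedImmersion {i : F ⟶ G} (hi : RepWith @IsClosedImmersion i) :
    IsProperMor i := by
  refine ⟨?_, ⟨?_, ?_⟩, ?_⟩
  · exact repWith_diagonal hi fun g (_ : IsClosedImmersion g) =>
      (inferInstance : IsClosedImmersion (pullback.diagonal g))
  · exact locP_of_repWith (repWith_mono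
      (fun _ _ g (_ : IsClosedImmersion g) => (inferInstance : LocallyOfFiniteType g)) _ hi)
  · exact isQuasiCompactMor_of_repWith (repWith_mono
      (fun _ _ g (_ : IsClosedImmersion g) => (inferInstance : QuasiCompact g)) _ hi)
  · exact univSp_of_repWith (fun _ _ _ h => isClosedMap_map h) (repWith_mono
      (fun _ _ g (_ : IsClosedImmersion g) => (inferInstance : UniversallyClosed g)) _ hi)

/-- The graph is a base change of the diagonal. -/
theorem graph_property {P : MorphismProperty Scheme.{u}} {f : F ⟶ G} {g : G ⟶ H}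
    (hg : RepWith P (pullback.diagonal g)) :
    RepWith P (pullback.lift (𝟙 F) f (by simp) : F ⟶ pullback (f ≫ g) g) :=
  repWith_of_isPullback (pullback_lift_diagonal_isPullback f g) hg

/-- A section inherits the properties of the diagonal. -/
theorem section_property {P : MorphismProperty Scheme.{u}} [P.IsStableUnderBaseChange]
    {f : F ⟶ G} {s : G ⟶ F} (hs : s ≫ f = 𝟙 G) (hd : RepWith P (pullback.diagonal f)) :
    RepWith P s := by
  have h1 := graph_property (f := s) hd
  have : IsIso (pullback.snd (s ≫ f) f) := by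
    have : IsIso (s ≫ f) := by rw [hs]; infer_instance
    infer_instance
  have h2 : RepWith P (pullback.lift (𝟙 G) s (by simp) ≫ pullback.snd (s ≫ f) f) :=
    ((RepWith (S := S) P).cancel_right_of_respectsIso _ _).2 h1
  rwa [pullback.lift_snd] at h2


/-- If `f ≫ g` is locally of finite presentation and `g` locally of finite type, then `f` is locally of finite
presentation. -/
theorem locallyOfFinitePresentation_of_comp {X Y Z : Scheme.{u}} (f : X ⟶ Y) (g : Y ⟶ Z)
    [LocallyOfFinitePresentation (f ≫ g)] [LocallyOfFiniteType g] : LocallyOfFinitePresentation f := by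
  rw [HasRingHomProperty.iff_exists_appLE (P := @LocallyOfFinitePresentation)
    (RingHom.finitePresentation_stableUnderComposition.stableUnderCompositionWithLocalizationAway
      RingHom.finitePresentation_holdsForLocalizationAway).left]
  intro x
  obtain ⟨W, hW, hgx, -⟩ := exists_isAffineOpen_mem_and_subset (U := (⊤ : Z.Opens)) (x := g (f x)) trivial
  obtain ⟨U, hU, hfx, hUW⟩ := exists_isAffineOpen_mem_and_subset (U := g ⁻¹ᵁ W) (x := f x) hgx
  obtain ⟨V, hV, hx, hVU⟩ := exists_isAffineOpen_mem_and_subset (U := f ⁻¹ᵁ U) (x := x) hfx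
  refine ⟨⟨U, hU⟩, ⟨V, hV⟩, hx, hVU, ?_⟩
  have h2 := HasRingHomProperty.appLE @LocallyOfFiniteType g ‹_› ⟨W, hW⟩ ⟨U, hU⟩ hUW
  have h1 := HasRingHomProperty.appLE @LocallyOfFinitePresentation (f ≫ g) ‹_› ⟨W, hW⟩ ⟨V, hV⟩
    (fun y hy => hUW (hVU hy))
  rw [← Scheme.Hom.appLE_comp_appLE _ _ W U V hUW hVU, CommRingCat.hom_comp] at h1
  exact RingHom.FinitePresentation.of_comp_finiteType _ h1 h2

/-- A representable morphism with monomorphic pullbacks is a monomorphism. -/
theorem mono_of_repWith {f : F ⟶ G} (hf : RepWith (MorphismProperty.monomorphisms Scheme.{u}) f) :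
    Mono f := by
  refine ⟨fun {Z} a b h => ?_⟩
  apply ObjectProperty.hom_ext
  ext T z
  have key : ∀ {T : Over S} (x y : (yon S).obj T ⟶ F), x ≫ f = y ≫ f → x = y := by
    intro T x y hxy
    have : Mono (hf.rep.snd (x ≫ f)).left := hf.property_snd (x ≫ f)
    have : Mono (hf.rep.snd (x ≫ f)) :=
      (Over.forget S).mono_of_mono_map (inferInstanceAs (Mono (hf.rep.snd (x ≫ f)).left))
    have e : hf.rep.lift (g := x ≫ f) x (𝟙 T) (by simp) =
        hf.rep.lift (g := x ≫ f) y (𝟙 T) (by simp [hxy]) := by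
      rw [← cancel_mono (hf.rep.snd (x ≫ f))]
      rw [Functor.relativelyRepresentable.lift_snd, Functor.relativelyRepresentable.lift_snd]
    have e' := congrArg (fun l => (yon S).map l ≫ hf.rep.fst (x ≫ f)) e
    simpa only [Functor.relativelyRepresentable.lift_fst] using e'
  obtain ⟨g, rfl⟩ : ∃ g : (yon S).obj T.unop ⟶ Z, (J S).uliftYonedaEquiv g = z :=
    ⟨_, Equiv.apply_symm_apply _ z⟩
  have h' : (g ≫ a) ≫ f = (g ≫ b) ≫ f := by simp [h]
  have := congrArg (J S).uliftYonedaEquiv (key _ _ h')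
  rw [GrothendieckTopology.uliftYonedaEquiv_comp, GrothendieckTopology.uliftYonedaEquiv_comp] at this
  exact this

/-- An algebraic space has an fpqc covering by affine schemes. -/
theorem exists_affine_cover (hG : IsAlgSpace G) :
    ∃ (ι : Type u) (Z : ι → Over S) (g : ∀ i, (yon S).obj (Z i) ⟶ G),
      (∀ i, IsAffine (Z i).left) ∧ IsFpqcCover (fun i => (yon S).obj (Z i)) g := by
  obtain ⟨U, p, he, hs⟩ := hG.atlas
  let Z : U.left.affineOpens → Over S := fun W => Over.mk (W.1.ι ≫ U.hom)
  let ι : ∀ W, Z W ⟶ U := fun W => Over.homMk W.1.ι rfl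
  refine ⟨U.left.affineOpens, Z, fun W => (yon S).map (ι W) ≫ p, fun W => W.2,
    isFpqcCover_of_isFppfCover hG (fun W => IsAlgSpace.yon_obj _) _ ⟨fun W => ?_, fun x => ?_⟩⟩
  · have h : RepWith @Etale ((yon S).map (ι W) ≫ p) :=
      repWith_comp ((repWith_yon_map_iff _ (ι W)).2 (inferInstanceAs (Etale W.1.ι))) he
    exact ⟨locP_mono (P := @Etale) (fun _ _ g (_ : Etale g) => (inferInstance : Flat g)) (locP_of_repWith h),
      locP_mono (P := @Etale) (fun _ _ g (_ : Etale g) => (inferInstance : LocallyOfFinitePresentation g))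
        (locP_of_repWith h)⟩
  · obtain ⟨u, rfl⟩ := surjective_ofPt hs x
    obtain ⟨W, hW, hu, -⟩ := exists_isAffineOpen_mem_and_subset (U := (⊤ : U.left.Opens)) (x := u) trivial
    obtain ⟨v, hv⟩ := (Scheme.Opens.range_ι W).symm.subset hu
    refine ⟨⟨W, hW⟩, Points.ofPt (𝟙 _) v, ?_⟩
    rw [Points.map_ofPt, Category.id_comp, ofPt_comp]
    exact congrArg (Points.ofPt p) hv

end Groth.Agent.AlgSpPts
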