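import Groth.Agent.AlgSpLib.LocalBaseTop
import Groth.Agent.AlgSpPts.Sep
import Groth.Agent.S10180

/-!
# Affine tests and descent along an etale chart; products over the base
-/

set_option backward.isDefEq.respectTransparency false
set_option backward.isDefEq.respectTransparency.types false

universe u

open CategoryTheory CategoryTheory.Limits AlgebraicGeometry Opposite AlgSp

namespace Groth.Agent.AlgSpPts

open Groth.Agent.AlgSpLib

variable {S : Scheme.{u}} {F G : Sp S}

theorem chart_cover (hG : IsAlgSpace G) {V : Over S} {p : (yon S).obj V ⟶ G}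
    (hp : RepWith @Etale p) (hps : RepWith @Surjective p) :
    IsFpqcCover (fun _ : PUnit.{u + 1} => (yon S).obj V) (fun _ => p) :=
  isFpqcCover_of_isFppfCover hG (fun _ => IsAlgSpace.yon_obj V) _ (isFppfCover_of_repWith_etale hp hps)

/-- A property descends along an etale surjective chart of the target. -/
theorem descend_chart {P : MorphismProperty (Sp S)} (hP : IsLocalOnBase (IsFpqcCover (S := S)) P)
    (hF : IsAlgSpace F) (hG : IsAlgSpace G) {f : F ⟶ G} {V : Over S} {p : (yon S).obj V ⟶ G}
    (hp : RepWith @Etale p) (hps : RepWith @Surjective p) {T : Sp S} {fst : T ⟶ F}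
    {snd : T ⟶ (yon S).obj V} (sq : IsPullback fst snd f p) (h : P snd) : P f :=
  (hP _ _ hG (fun _ => IsAlgSpace.yon_obj V) (chart_cover hG hp hps) f hF _ (fun _ => snd) (fun _ => fst)
    (fun _ => isAlgSpace_of_isPullback sq hF (IsAlgSpace.yon_obj V) hG) fun _ => sq).2 fun _ => h

/-- A universal property of maps on points is tested on affine schemes over the target. -/
theorem univSp_of_affine {Q : MorphismProperty (Sp S)} (hQ : TestOnCover Q) {f : F ⟶ G}
    (h : ∀ (Z : Over S), IsAffine Z.left → ∀ (g : (yon S).obj Z ⟶ G) (P : Sp S) (fst : P ⟶ F)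
      (snd : P ⟶ (yon S).obj Z), IsPullback fst snd f g → Q snd) : UnivSp Q f := by
  intro W W' hW k fst snd sq
  obtain ⟨ι, Z, g, hZ, hg⟩ := exists_affine_cover hW
  exact hQ _ _ g snd _ _ hg (fun i => IsPullback.of_hasPullback snd (g i)) fun i =>
    h (Z i) (hZ i) (g i ≫ k) _ _ _ ((IsPullback.of_hasPullback snd (g i)).paste_horiz sq)

theorem isQuasiCompactMor_of_affine (hF : IsAlgSpace F) (hG : IsAlgSpace G) {f : F ⟶ G}
    (h : ∀ (Z : Over S), IsAffine Z.left → ∀ (g : (yon S).obj Z ⟶ G) (P : Sp S) (fst : P ⟶ F)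
      (snd : P ⟶ (yon S).obj Z), IsPullback fst snd f g → IsQuasiCompactSp P) :
    IsQuasiCompactMor f := by
  intro W W' hW hqc k fst snd sq
  obtain ⟨U, p, hU, hp, hps⟩ := (S10180.result ⟨W, hW⟩).1 hqc
  have hW' : IsAlgSpace W' := isAlgSpace_of_isPullback sq hF hW hG
  have sq₂ := IsPullback.of_hasPullback snd p
  have hT := isAlgSpace_of_isPullback sq₂ hW' (IsAlgSpace.yon_obj U) hW
  have : CompactSpace (Points (pullback snd p)) := (AlgSpPts.isQuasiCompactSp_iff hT).1
    (h U hU (p ≫ k) _ _ _ (sq₂.paste_horiz sq))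
  refine (AlgSpPts.isQuasiCompactSp_iff hW').2 ⟨?_⟩
  rw [← (surjective_map_of_isPullback sq₂.flip (surjective_map_of_repWith hps)).range_eq]
  exact isCompact_range (Points.continuous_map _)

/-- The terminal sheaf is represented by the base. -/
noncomputable def isTerminalYon (S : Scheme.{u}) : IsTerminal ((yon S).obj (Over.mk (𝟙 S))) :=
  IsTerminal.isTerminalObj (yon S) _ Over.mkIdTerminal

/-- The diagonal over the base as a relative diagonal. -/
theorem repWith_diag_iff (P : MorphismProperty Scheme.{u}) [P.IsStableUnderBaseChange] (F : Sp S) :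
    RepWith P (Limits.diag F) ↔ RepWith P (pullback.diagonal ((isTerminalYon S).from F)) := by
  let g := (isTerminalYon S).from F
  let e : pullback g g ≅ F ⨯ F :=
    { hom := prod.lift (pullback.fst g g) (pullback.snd g g)
      inv := pullback.lift prod.fst prod.snd ((isTerminalYon S).hom_ext _ _)
      hom_inv_id := by apply pullback.hom_ext <;> simp
      inv_hom_id := by apply Limits.prod.hom_ext <;> simp }
  have he : pullback.diagonal g ≫ e.hom = Limits.diag F := by
    apply Limits.prod.hom_ext <;> simp [e]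
  rw [← he]
  have : IsIso e.hom := e.isIso_hom
  exact (RepWith (S := S) P).cancel_right_of_respectsIso _ _

theorem isAlgSpace_prod (hF : IsAlgSpace F) (hG : IsAlgSpace G) : IsAlgSpace (F ⨯ G) := by
  have sq : IsPullback (prod.fst : F ⨯ G ⟶ F) prod.snd ((isTerminalYon S).from F) ((isTerminalYon S).from G) :=
    ⟨⟨(isTerminalYon S).hom_ext _ _⟩, ⟨PullbackCone.IsLimit.mk _ (fun s => prod.lift s.fst s.snd)
      (fun s => by simp) (fun s => by simp) (fun s m h1 h2 => by apply Limits.prod.hom_ext <;> simp [h1, h2])⟩⟩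
  exact isAlgSpace_of_isPullback sq hF hG (IsAlgSpace.yon_obj _)

theorem diag_package (hF : IsAlgSpace F) :
    RepWith @LocallyOfFiniteType (Limits.diag F) ∧
    RepWith (@LocallyQuasiFinite ⊓ @LocallyOfFiniteType) (Limits.diag F) ∧
    RepWith @IsSeparated (Limits.diag F) ∧
    RepWith (MorphismProperty.monomorphisms Scheme.{u}) (Limits.diag F) := by
  obtain ⟨-, h1, h2, h3, h4⟩ :=
    diagonal_package hF (IsAlgSpace.yon_obj _) ((isTerminalYon S).from F)
  have : (@LocallyQuasiFinite ⊓ @LocallyOfFiniteType : MorphismProperty Scheme.{u}).IsStableUnderBaseChange :=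
    inferInstance
  exact ⟨(repWith_diag_iff _ F).2 h1, (repWith_diag_iff _ F).2 h2, (repWith_diag_iff _ F).2 h3,
    (repWith_diag_iff _ F).2 h4⟩

theorem isQuasiSeparatedSp_iff_mor (F : Sp S) :
    IsQuasiSeparatedSp F ↔ IsQuasiSeparatedMor ((isTerminalYon S).from F) :=
  repWith_diag_iff _ F

/-- A map from a separated scheme to an algebraic space is separated. -/
theorem repWith_isSeparated_of_yon (hF : IsAlgSpace F) {U : Over S} (a : (yon S).obj U ⟶ F)
    (hU : IsSeparated U.hom) : RepWith @IsSeparated a := by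
  obtain ⟨-, -, -, h3, -⟩ :=
    diagonal_package hF (IsAlgSpace.yon_obj _) ((isTerminalYon S).from F)
  refine AlgSpLib.of_comp_of_diagonal (RepWith @IsSeparated) a ((isTerminalYon S).from F) ?_ h3
  rw [(isTerminalYon S).hom_ext (a ≫ (isTerminalYon S).from F) ((yon S).map (Over.mkIdTerminal.from U))]
  refine (repWith_yon_map_iff _ _).2 ?_
  have e : (Over.mkIdTerminal.from U).left = U.hom := by
    simpa using Over.w (Over.mkIdTerminal.from U)
  rw [e]
  exact hU

end Groth.Agent.AlgSpPts
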