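import Groth.Agent.AlgSpPts.RepBySp
import Mathlib.CategoryTheory.Limits.Shapes.Pullback.IsPullback.Basic
import Mathlib.CategoryTheory.Limits.Shapes.Diagonal

/-!
# Diagonals of representable maps, products
-/

set_option backward.isDefEq.respectTransparency false
set_option backward.isDefEq.respectTransparency.types false

universe u

open CategoryTheory CategoryTheory.Limits AlgebraicGeometry Opposite AlgSp

namespace Groth.Agent.AlgSpPts

open Groth.Agent.AlgSpLib

section General

variable {C : Type*} [Category C] [HasPullbacks C]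

/-- Every map into `F ×_G F` factors through the fibre square of a base change `r` of `a`, compatibly with
the diagonals. -/
theorem exists_diagonal_factor {F G V T : C} {a : F ⟶ G} (z : T ⟶ pullback a a) {fst : V ⟶ F}
    {r : V ⟶ T} (hsq : IsPullback fst r a (z ≫ pullback.fst a a ≫ a)) :
    ∃ (y : T ⟶ pullback r r) (m : pullback r r ⟶ pullback a a),
      y ≫ m = z ∧ IsPullback fst (pullback.diagonal r) (pullback.diagonal a) m := by
  let q := z ≫ pullback.fst a a ≫ a
  let m : pullback r r ⟶ pullback a a :=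
    pullback.map r r a a fst fst q hsq.w.symm hsq.w.symm
  have hm₁ : m ≫ pullback.fst a a = pullback.fst r r ≫ fst := pullback.lift_fst _ _ _
  have hm₂ : m ≫ pullback.snd a a = pullback.snd r r ≫ fst := pullback.lift_snd _ _ _
  let y₁ : T ⟶ V := hsq.lift (z ≫ pullback.fst a a) (𝟙 _) (by simp)
  let y₂ : T ⟶ V := hsq.lift (z ≫ pullback.snd a a) (𝟙 _) (by simp [pullback.condition])
  let y : T ⟶ pullback r r := pullback.lift y₁ y₂ (by simp [y₁, y₂])
  refine ⟨y, m, ?_, ?_⟩
  · apply pullback.hom_ext
    · rw [Category.assoc, hm₁, ← Category.assoc, pullback.lift_fst, hsq.lift_fst]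
    · rw [Category.assoc, hm₂, ← Category.assoc, pullback.lift_snd, hsq.lift_fst]
  refine ⟨⟨?_⟩, ⟨PullbackCone.IsLimit.mk _ (fun s => s.snd ≫ pullback.fst r r) ?_ ?_ ?_⟩⟩
  · apply pullback.hom_ext
    · simp only [Category.assoc, hm₁, pullback.diagonal_fst, pullback.diagonal_fst_assoc,
        Category.comp_id]
    · simp only [Category.assoc, hm₂, pullback.diagonal_snd, pullback.diagonal_snd_assoc,
        Category.comp_id]
  · intro s
    have h := s.condition =≫ pullback.fst a a
    simp only [Category.assoc, hm₁, pullback.diagonal_fst, Category.comp_id] at h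
    rw [Category.assoc]
    exact h.symm
  · intro s
    apply pullback.hom_ext
    · simp
    · rw [Category.assoc, pullback.diagonal_snd, Category.comp_id]
      apply hsq.hom_ext
      · have h₁ := s.condition =≫ pullback.fst a a
        have h₂ := s.condition =≫ pullback.snd a a
        simp only [Category.assoc, hm₁, pullback.diagonal_fst, Category.comp_id] at h₁
        simp only [Category.assoc, hm₂, pullback.diagonal_snd, Category.comp_id] at h₂
        rw [Category.assoc, Category.assoc, ← h₁, ← h₂]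
      · simp [pullback.condition]
  · intro s l _ h2
    rw [← h2]
    simp

end General

variable {S : Scheme.{u}} {F G H : PSp S}

/-- A map of algebraic spaces is representable by algebraic spaces. -/
theorem repBySp_of_isAlgSpaceP (a : F ⟶ G) (hF : IsAlgSpaceP F) (hG : IsAlgSpaceP G) : RepBySp a := by
  obtain ⟨hFs, hF⟩ := hF
  obtain ⟨hGs, hG⟩ := hG
  exact (repBySp_hom_iff (ObjectProperty.homMk a : (⟨F, hFs⟩ : Sp S) ⟶ ⟨G, hGs⟩)).2
    fun U ξ F' fst snd sq => isAlgSpace_of_isPullback sq hF (IsAlgSpace.yon_obj U) hG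

/-- The presheaf of a fibre product of algebraic spaces is an algebraic space. -/
theorem isAlgSpaceP_of_isPullback {P : PSp S} {fst : P ⟶ F} {snd : P ⟶ G} {a : F ⟶ H} {b : G ⟶ H}
    (sq : IsPullback fst snd a b) (hF : IsAlgSpaceP F) (hG : IsAlgSpaceP G) (hH : IsAlgSpaceP H) :
    IsAlgSpaceP P := by
  obtain ⟨hFs, hF⟩ := hF
  obtain ⟨hGs, hG⟩ := hG
  obtain ⟨hHs, hH⟩ := hH
  let F' : Sp S := ⟨F, hFs⟩
  let G' : Sp S := ⟨G, hGs⟩
  let H' : Sp S := ⟨H, hHs⟩
  have hP : Presheaf.IsSheaf (J S) P := isSheaf_of_isPullback (F := F') (G := H') (H := G') sq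
  let P' : Sp S := ⟨P, hP⟩
  let fst' : P' ⟶ F' := ObjectProperty.homMk fst
  let snd' : P' ⟶ G' := ObjectProperty.homMk snd
  let a' : F' ⟶ H' := ObjectProperty.homMk a
  let b' : G' ⟶ H' := ObjectProperty.homMk b
  have sq' : IsPullback fst' snd' a' b' :=
    IsPullback.of_map_of_faithful (sheafToPresheaf (J S) (Type (u + 1))) sq
  exact ⟨hP, isAlgSpace_of_isPullback sq' hF hG hH⟩

theorem isAlgSpaceP_pyon (U : Over S) : IsAlgSpaceP ((pyon S).obj U) :=
  (isAlgSpaceP_obj_iff ((yon S).obj U)).2 (IsAlgSpace.yon_obj U)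

theorem isAlgSpaceP_prod_pyon (U V : Over S) : IsAlgSpaceP ((pyon S).obj U ⨯ (pyon S).obj V) :=
  (isAlgSpaceP_pyon (U ⨯ V)).of_iso (asIso (prodComparison (pyon S) U V))

theorem repBySp_diagonal {a : F ⟶ G} (ha : RepBySp a) : RepBySp (pullback.diagonal a) := by
  intro U z F' fst snd sq
  have hV := IsPullback.of_hasPullback a (z ≫ pullback.fst a a ≫ a)
  obtain ⟨y, m, hy, hcart⟩ := exists_diagonal_factor z hV
  have hP := ha _ _ _ hV
  have hPP := isAlgSpaceP_of_isPullback (IsPullback.of_hasPullback (pullback.snd a (z ≫ pullback.fst a a ≫ a)) (pullback.snd a (z ≫ pullback.fst a a ≫ a))) hP hP (isAlgSpaceP_pyon U)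
  have hd := repBySp_of_isAlgSpaceP (pullback.diagonal (pullback.snd a (z ≫ pullback.fst a a ≫ a))) hP hPP
  have hs := IsPullback.of_hasPullback (pullback.diagonal (pullback.snd a (z ≫ pullback.fst a a ≫ a))) y
  have := hs.paste_horiz hcart
  rw [hy] at this
  exact (hd y _ _ hs).of_iso (this.isoIsPullback _ _ sq)

theorem relativelyRepresentable_diagonal {a : F ⟶ G} (ha : (pyon S).relativelyRepresentable a) :
    (pyon S).relativelyRepresentable (pullback.diagonal a) := by
  intro U z
  let q := z ≫ pullback.fst a a ≫ a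
  let r := ha.snd q
  obtain ⟨y, m, hy, hcart⟩ := exists_diagonal_factor z (ha.isPullback q)
  let e := PreservesPullback.iso (pyon S) r r
  have he : pullback.diagonal ((pyon S).map r) = (pyon S).map (pullback.diagonal r) ≫ e.hom := by
    apply pullback.hom_ext
    · rw [pullback.diagonal_fst, Category.assoc, PreservesPullback.iso_hom_fst, ← Functor.map_comp,
        pullback.diagonal_fst, CategoryTheory.Functor.map_id]
    · rw [pullback.diagonal_snd, Category.assoc, PreservesPullback.iso_hom_snd, ← Functor.map_comp,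
        pullback.diagonal_snd, CategoryTheory.Functor.map_id]
  have hd : (pyon S).relativelyRepresentable (pullback.diagonal ((pyon S).map r)) := by
    rw [he]
    exact MorphismProperty.comp_mem _ _ _ (Functor.relativelyRepresentable.map _ _)
      (Functor.relativelyRepresentable.isomorphisms_le (F := pyon S) _ (MorphismProperty.isomorphisms.infer_property e.hom))
  obtain ⟨W, snd, fst, hs⟩ := hd y
  have := hs.paste_horiz hcart
  rw [hy] at this
  exact ⟨W, snd, _, this⟩

theorem repBySp_prod_map {F₁ G₁ F₂ G₂ : PSp S} {a₁ : F₁ ⟶ G₁} {a₂ : F₂ ⟶ G₂} (h₁ : RepBySp a₁)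
    (h₂ : RepBySp a₂) : RepBySp (prod.map a₁ a₂) := by
  have e : prod.map a₁ a₂ = prod.map a₁ (𝟙 F₂) ≫ prod.map (𝟙 G₁) a₂ := by simp
  rw [e]
  refine repBySp_comp (repBySp_of_isPullback (IsPullback.of_prod_fst_with_id a₁ F₂) h₁) ?_
  have sq : IsPullback (prod.snd : G₁ ⨯ F₂ ⟶ F₂) (prod.map (𝟙 G₁) a₂) a₂ prod.snd :=
    ⟨⟨by simp⟩, ⟨PullbackCone.IsLimit.mk _ (fun s => prod.lift (s.snd ≫ prod.fst) s.fst)
      (fun s => by simp) (fun s => by apply Limits.prod.hom_ext <;> simp [s.condition])
      (fun s l h1 h2 => by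
        apply Limits.prod.hom_ext
        · have := h2 =≫ prod.fst
          simpa using this
        · simpa using h1)⟩⟩
  exact repBySp_of_isPullback sq h₂

end Groth.Agent.AlgSpPts
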