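import Mathlib.CategoryTheory.Subfunctor.Basic
import Mathlib.CategoryTheory.Limits.Types.Pullbacks
import Mathlib.CategoryTheory.Limits.Shapes.Pullback.IsPullback.Basic
import Groth.Agent.AlgSpPts.RepByDiag
import Groth.Agent.AlgSpPts.Sep
import Groth.Agent.AlgSpPts.Descent
import Groth.Agent.S9876

/-!
# The open subspace attached to an open set of points
-/

set_option backward.isDefEq.respectTransparency false
set_option backward.isDefEq.respectTransparency.types false

universe u

open CategoryTheory CategoryTheory.Limits AlgebraicGeometry Opposite AlgSp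

namespace Groth.Agent.AlgSpPts

open Groth.Agent.AlgSpLib

variable {S : Scheme.{u}} {F : Sp S}

/-- The sections all of whose points lie in `W`. -/
def ptsSub (W : Set (Points F)) : Subfunctor F.obj where
  obj T := {x | ∀ t : ↥T.unop.left, Points.ofPt ((J S).uliftYonedaEquiv.symm x) t ∈ W}
  map {T T'} φ x hx t := by
    have e : (J S).uliftYonedaEquiv.symm (F.obj.map φ x) =
        (yon S).map φ.unop ≫ (J S).uliftYonedaEquiv.symm x := by
      apply (J S).uliftYonedaEquiv.injective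
      rw [Equiv.apply_symm_apply, ← AlgSpLib.uliftYonedaEquiv_precomp φ.unop, Equiv.apply_symm_apply]
      rfl
    rw [e, ofPt_comp]
    exact hx _

theorem mem_ptsSub_iff {W : Set (Points F)} {T : Over S} (g : (yon S).obj T ⟶ F) :
    (J S).uliftYonedaEquiv g ∈ (ptsSub W).obj (op T) ↔ ∀ t, Points.ofPt g t ∈ W := by
  show (∀ t, Points.ofPt ((J S).uliftYonedaEquiv.symm ((J S).uliftYonedaEquiv g)) t ∈ W) ↔ _
  rw [Equiv.symm_apply_apply]

/-- The open subscheme pulling back an open set of points. -/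
def ptsOpen {W : Set (Points F)} (hW : IsOpen W) {T : Over S} (g : (yon S).obj T ⟶ F) : T.left.Opens :=
  ⟨Points.ofPt g ⁻¹' W, hW.preimage (Points.continuous_ofPt g)⟩

theorem exists_isPullback_ptsSub {W : Set (Points F)} (hW : IsOpen W) {T : Over S}
    (g : (yon S).obj T ⟶ F) :
    ∃ fst : (pyon S).obj (Over.mk ((ptsOpen hW g).ι ≫ T.hom)) ⟶ (ptsSub W).toFunctor,
      IsPullback fst ((pyon S).map (Over.homMk (ptsOpen hW g).ι rfl)) (ptsSub W).ι g.hom := by
  let ι' : Over.mk ((ptsOpen hW g).ι ≫ T.hom) ⟶ T := Over.homMk (ptsOpen hW g).ι rfl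
  have hmem : (J S).uliftYonedaEquiv ((yon S).map ι' ≫ g) ∈ (ptsSub W).obj (op _) := by
    rw [mem_ptsSub_iff]
    intro t
    rw [ofPt_comp]
    exact ((Scheme.Opens.range_ι (ptsOpen hW g)).subset (Set.mem_range_self t) :)
  let fst : (pyon S).obj (Over.mk ((ptsOpen hW g).ι ≫ T.hom)) ⟶ (ptsSub W).toFunctor :=
    uliftYonedaEquiv.{u + 1}.symm ⟨_, hmem⟩
  have hfst : fst ≫ (ptsSub W).ι = (pyon S).map ι' ≫ g.hom := by
    apply uliftYonedaEquiv.{u + 1}.injective
    have h1 : uliftYonedaEquiv.{u + 1} fst = ⟨_, hmem⟩ := Equiv.apply_symm_apply _ _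
    rw [uliftYonedaEquiv_comp, h1]
    rfl
  refine ⟨fst, IsPullback.of_forall_isPullback_app fun T' => ?_⟩
  rw [Types.isPullback_iff]
  refine ⟨congrArg (fun α : _ ⟶ F.obj => α.app T') hfst, ?_, ?_⟩
  · rintro ⟨x⟩ ⟨y⟩ ⟨-, h⟩
    have : Mono ι' := (Over.forget S).mono_of_mono_map (inferInstanceAs (Mono (ptsOpen hW g).ι))
    exact congrArg ULift.up ((cancel_mono ι').1 (congrArg ULift.down h))
  · rintro ⟨s, hs⟩ ⟨φ⟩ h
    change s = g.hom.app T' ⟨φ⟩ at h
    have hmemφ : (J S).uliftYonedaEquiv ((yon S).map φ ≫ g) ∈ (ptsSub W).obj T' := by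
      have e : (J S).uliftYonedaEquiv ((yon S).map φ ≫ g) = s := h.symm
      rw [e]
      exact hs
    have hr := (mem_ptsSub_iff (T := T'.unop) _).1 hmemφ
    have hrange : Set.range φ.left ⊆ Set.range (ptsOpen hW g).ι := by
      rintro _ ⟨t, rfl⟩
      rw [Scheme.Opens.range_ι]
      show Points.ofPt g (φ.left t) ∈ W
      rw [← ofPt_comp]
      exact hr t
    let l : T'.unop ⟶ Over.mk ((ptsOpen hW g).ι ≫ T.hom) :=
      Over.homMk (IsOpenImmersion.lift (ptsOpen hW g).ι φ.left hrange) (by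
        change IsOpenImmersion.lift _ _ hrange ≫ (ptsOpen hW g).ι ≫ T.hom = _
        rw [IsOpenImmersion.lift_fac_assoc]
        exact Over.w φ)
    have hl : l ≫ ι' = φ := Over.OverMorphism.ext (IsOpenImmersion.lift_fac _ _ hrange)
    refine ⟨(⟨l⟩ : ULift.{u + 1} (T'.unop ⟶ _)), Subtype.ext ?_, congrArg ULift.up hl⟩
    refine (congrArg (fun α : (pyon S).obj _ ⟶ F.obj => α.app T' (⟨l⟩ : ULift.{u + 1} (T'.unop ⟶ _))) hfst).trans ?_
    change g.hom.app T' ⟨l ≫ ι'⟩ = s
    rw [hl, h]

theorem relativelyRepresentable_ptsSub {W : Set (Points F)} (hW : IsOpen W) :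
    (pyon S).relativelyRepresentable (ptsSub W).ι := fun T ξ => by
  obtain ⟨fst, sq⟩ := exists_isPullback_ptsSub hW (ObjectProperty.homMk ξ : (yon S).obj T ⟶ F)
  exact ⟨_, _, fst, sq⟩

/-- Every open set of points is the set of points of an open subspace. -/
theorem exists_open_subspace (hF : IsAlgSpace F) {W : Set (Points F)} (hW : IsOpen W) :
    ∃ (X' : Sp S) (j : X' ⟶ F), IsAlgSpace X' ∧ RepWith @IsOpenImmersion j ∧
      Set.range (Points.map j) = W := by
  have hP : IsAlgSpaceP (ptsSub W).toFunctor :=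
    S9876.result S ⟨F, hF⟩ _ (ptsSub W).ι (relativelyRepresentable_ptsSub hW)
  obtain ⟨hs, hA⟩ := hP
  let X' : Sp S := ⟨(ptsSub W).toFunctor, hs⟩
  let j : X' ⟶ F := ObjectProperty.homMk (ptsSub W).ι
  have key : ∀ ⦃T : Over S⦄ (g : (yon S).obj T ⟶ F), ∃ fst : (yon S).obj _ ⟶ X',
      IsPullback fst ((yon S).map (Over.homMk (ptsOpen hW g).ι rfl :
        Over.mk ((ptsOpen hW g).ι ≫ T.hom) ⟶ T)) j g := by
    intro T g
    obtain ⟨fst, sq⟩ := exists_isPullback_ptsSub hW g
    exact ⟨ObjectProperty.homMk fst, IsPullback.of_map_of_faithful (sheafToPresheaf (J S) (Type (u + 1))) sq⟩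
  have hj : RepWith @IsOpenImmersion j := repWith_of_squares fun T g => by
    obtain ⟨fst, sq⟩ := key g
    exact ⟨_, fst, _, sq, inferInstanceAs (IsOpenImmersion (ptsOpen hW g).ι)⟩
  refine ⟨X', j, hA, hj, Set.Subset.antisymm ?_ fun x hx => ?_⟩
  · rintro _ ⟨z, rfl⟩
    obtain ⟨T, g, t, -, rfl⟩ := exists_ofPt_eq z
    have := ((J S).uliftYonedaEquiv g).2
    have e : (J S).uliftYonedaEquiv (g ≫ j) = ((J S).uliftYonedaEquiv g).1 := by
      rw [GrothendieckTopology.uliftYonedaEquiv_comp]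
      rfl
    rw [← e] at this
    rw [Points.map_ofPt]
    exact (mem_ptsSub_iff _).1 this t
  · obtain ⟨T, g, t, -, rfl⟩ := exists_ofPt_eq x
    obtain ⟨fst, sq⟩ := key g
    obtain ⟨v, hv⟩ := (Scheme.Opens.range_ι (ptsOpen hW g)).symm.subset (hx : t ∈ (ptsOpen hW g : Set ↥T.left))
    refine ⟨Points.ofPt fst v, ?_⟩
    rw [map_ofPt_fst sq]
    exact congrArg (Points.ofPt g) hv

theorem isQuasiCompactMor_toBase [QuasiSeparatedSpace ↥S] (hF : IsAlgSpace F)
    (hqc : IsQuasiCompactSp F) : IsQuasiCompactMor ((isTerminalYon S).from F) := by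
  refine isQuasiCompactMor_of_affine hF (IsAlgSpace.yon_obj _) fun Z hZ g P fst snd sq => ?_
  have hP : IsAlgSpace P := isAlgSpace_of_isPullback sq hF (IsAlgSpace.yon_obj Z) (IsAlgSpace.yon_obj _)
  obtain ⟨U, a, ha, has, (hU : CompactSpace ↥U.left)⟩ := hqc
  let u₀ := Over.mkIdTerminal.from U
  let z₀ := Over.mkIdTerminal.from Z
  have sqS := (IsPullback.of_hasPullback u₀ z₀)
  let l : (yon S).obj (pullback u₀ z₀) ⟶ P :=
    sq.lift ((yon S).map (pullback.fst u₀ z₀) ≫ a) ((yon S).map (pullback.snd u₀ z₀))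
      ((isTerminalYon S).hom_ext _ _)
  have sql : IsPullback ((yon S).map (pullback.fst u₀ z₀)) l a fst := by
    refine IsPullback.of_bot ?_ (sq.lift_fst _ _ _).symm sq
    rw [sq.lift_snd, (isTerminalYon S).hom_ext (a ≫ (isTerminalYon S).from F) ((yon S).map u₀),
      (isTerminalYon S).hom_ext g ((yon S).map z₀)]
    exact sqS.map (yon S)
  have sql' := sqS.map (Over.forget S)
  have : QuasiCompact u₀.left := by
    have : IsAffine Z.left := hZ
    have e : u₀.left = U.hom := by simpa using Over.w u₀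
    rw [e]
    have h1 : QuasiCompact (U.hom ≫ terminal.from S) := by
      rw [terminal.comp_from]; exact (quasiCompact_iff_compactSpace _).2 hU
    exact MorphismProperty.of_postcomp (W := @QuasiCompact) (W' := @QuasiSeparated) U.hom (terminal.from S)
      ((quasiSeparatedSpace_iff_quasiSeparated S).1 ‹_›) h1
  have : QuasiCompact (pullback.snd u₀ z₀).left :=
    MorphismProperty.of_isPullback sql' this
  have : IsAffine Z.left := hZ
  have : CompactSpace ↥(pullback u₀ z₀).left :=
    QuasiCompact.compactSpace_of_compactSpace (pullback.snd u₀ z₀).left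
  have : CompactSpace (Points ((yon S).obj (pullback u₀ z₀))) := (Points.schemeHomeo _).compactSpace
  refine (AlgSpPts.isQuasiCompactSp_iff hP).2 ⟨?_⟩
  rw [← (surjective_map_of_isPullback sql (surjective_map_of_repWith has)).range_eq]
  exact isCompact_range (Points.continuous_map _)

/-- Over a quasi-separated base every morphism from a quasi-compact space to a quasi-separated one is
quasi-compact. -/
theorem isQuasiCompactMor_of_qc_qs [QuasiSeparatedSpace ↥S] {G : Sp S} (hF : IsAlgSpace F)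
    (hG : IsAlgSpace G) (hqc : IsQuasiCompactSp F) (hqs : IsQuasiSeparatedSp G) (f : F ⟶ G) :
    IsQuasiCompactMor f := by
  let tG := (isTerminalYon S).from G
  have hΓ : (pullback.lift (𝟙 _) f (by simp) : F ⟶ pullback (f ≫ tG) tG) ≫
      pullback.snd (f ≫ tG) tG = f := pullback.lift_snd _ _ _
  have h1 : IsQuasiCompactMor (f ≫ tG) := by
    rw [(isTerminalYon S).hom_ext (f ≫ tG) ((isTerminalYon S).from F)]
    exact isQuasiCompactMor_toBase hF hqc
  rw [← hΓ]
  exact isQuasiCompactMor_comp (isAlgSpace_pullback hF hG (IsAlgSpace.yon_obj _) _ _) hG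
    (isQuasiCompactMor_of_repWith (graph_property ((isQuasiSeparatedSp_iff_mor G).1 hqs)))
    (isQuasiCompactMor_of_isPullback (IsPullback.of_hasPullback _ _) h1)

end Groth.Agent.AlgSpPts
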