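import Groth.Agent.AlgSpPts.FppfTarget
import Groth.Agent.AlgSpPts.Descent

set_option backward.isDefEq.respectTransparency false
set_option backward.isDefEq.respectTransparency.types false

open CategoryTheory Limits Opposite AlgebraicGeometry MorphismProperty AlgSp Groth.Agent.AlgSpLib

namespace Groth.Agent.AlgSpPts

universe u v w

/-- A pullback square is the base change of the diagonal along the product of the two maps. -/
theorem isPullback_diag {C : Type w} [Category.{v} C] [HasBinaryProducts C] {F A B W P : C}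
    {a : A ⟶ F} {b : B ⟶ F} {fst : W ⟶ A} {snd : W ⟶ B} (sq : IsPullback fst snd a b)
    (q₁ : P ⟶ A) (q₂ : P ⟶ B) (hext : ∀ {Z : C} (c d : Z ⟶ P), c ≫ q₁ = d ≫ q₁ → c ≫ q₂ = d ≫ q₂ → c = d)
    (l : W ⟶ P) (hl₁ : l ≫ q₁ = fst) (hl₂ : l ≫ q₂ = snd) :
    IsPullback (fst ≫ a) l (Limits.diag F) (prod.lift (q₁ ≫ a) (q₂ ≫ b)) := by
  refine ⟨⟨?_⟩, ⟨PullbackCone.IsLimit.mk _ (fun s => sq.lift (s.snd ≫ q₁) (s.snd ≫ q₂) ?_) ?_ ?_ ?_⟩⟩
  · apply prod.hom_ext
    · simp [← hl₁]
    · simp [sq.w, ← hl₂]
  · have h1 := s.condition =≫ prod.fst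
    have h2 := s.condition =≫ prod.snd
    simp at h1 h2
    rw [Category.assoc, Category.assoc, ← h1, ← h2]
  · intro s
    have h1 := s.condition =≫ prod.fst
    simp at h1
    rw [← Category.assoc, sq.lift_fst, Category.assoc, ← h1]
  · intro s
    apply hext <;> simp [Category.assoc, hl₁, hl₂]
  · intro s m _ m2
    apply sq.hom_ext
    · rw [sq.lift_fst, ← hl₁, ← Category.assoc, m2]
    · rw [sq.lift_snd, ← hl₂, ← Category.assoc, m2]

variable {S : Scheme.{u}}

theorem yon_prod_ext {U V : Over S} {Z : Sp S} (c d : Z ⟶ (yon S).obj (U ⨯ V))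
    (h₁ : c ≫ (yon S).map prod.fst = d ≫ (yon S).map prod.fst)
    (h₂ : c ≫ (yon S).map prod.snd = d ≫ (yon S).map prod.snd) : c = d := by
  rw [← cancel_mono (prodComparison (yon S) U V)]
  apply prod.hom_ext
  · simpa [prodComparison_fst] using h₁
  · simpa [prodComparison_snd] using h₂

/-- An fppf local property of the diagonal may be tested on a chart. -/
theorem repWith_diag_of_chart (P : MorphismProperty Scheme.{u}) [P.IsStableUnderBaseChange]
    [P.IsLocalAtTarget Scheme.fppfPrecoverage] {F : Sp S} (hr : Representable (Limits.diag F))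
    {U R : Over S} (p : (yon S).obj U ⟶ F) (hp : RepWith @Etale p) (hs : RepWith @Surjective p)
    (t s : R ⟶ U) (sq : IsPullback ((yon S).map t) ((yon S).map s) p p) (h : P (prod.lift t s).left) :
    RepWith P (Limits.diag F) := by
  let b : (yon S).obj (U ⨯ U) ⟶ F ⨯ F :=
    prod.lift ((yon S).map prod.fst ≫ p) ((yon S).map prod.snd ≫ p)
  have sqb := isPullback_diag sq ((yon S).map prod.fst) ((yon S).map prod.snd) (yon_prod_ext)
    ((yon S).map (prod.lift t s)) (by rw [← Functor.map_comp, prod.lift_fst])
    (by rw [← Functor.map_comp, prod.lift_snd])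
  have : Sheaf.IsLocallySurjective b := isLocallySurjective_of_lifts b fun T z => by
    let u₁ := hp.rep.snd (z ≫ prod.fst)
    let w := (yon S).map u₁ ≫ z ≫ prod.snd
    let u₂ := hp.rep.snd w
    have : Etale u₁.left := hp.property_snd _
    have : Surjective u₁.left := hs.2 _ _ _ (hp.rep.isPullback _)
    have : Etale u₂.left := hp.property_snd _
    have : Surjective u₂.left := hs.2 _ _ _ (hp.rep.isPullback _)
    refine ⟨_, u₂ ≫ u₁, (yon S).map (prod.lift (u₂ ≫ hp.rep.fst' (z ≫ prod.fst)) (hp.rep.fst' w)),
      (by rw [Over.comp_left]; exact fppf_of_etale _), ?_⟩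
    apply prod.hom_ext
    · simp only [b, Category.assoc, prod.lift_fst]
      rw [← Category.assoc, ← Functor.map_comp, prod.lift_fst, Functor.map_comp, Category.assoc,
        Functor.relativelyRepresentable.map_fst', hp.rep.w, Functor.map_comp, Category.assoc]
    · simp only [b, Category.assoc, prod.lift_snd]
      rw [← Category.assoc, ← Functor.map_comp, prod.lift_snd,
        Functor.relativelyRepresentable.map_fst', hp.rep.w, Functor.map_comp, Category.assoc]
  exact repWith_of_locallySurjective hr b sqb P ((repWith_yon_map_iff _ _).2 h)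

/-- A property of the diagonal, Zariski local at the target, may be tested on pairs of maps from affines. -/
theorem repWith_diag_of_affine (P : MorphismProperty Scheme.{u}) [P.IsStableUnderBaseChange]
    [IsZariskiLocalAtTarget P] {F : Sp S} (hr : Representable (Limits.diag F))
    (H : ∀ (T W : Over S) (a b : (yon S).obj T ⟶ F) (fst snd : W ⟶ T), IsAffine T.left →
      IsPullback ((yon S).map fst) ((yon S).map snd) a b → P (prod.lift fst snd).left)
    (hr' : ∀ (T : Over S) (a : (yon S).obj T ⟶ F), IsAffine T.left → Representable a) :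
    RepWith P (Limits.diag F) := by
  refine ⟨hr, fun T V z f₀ g₀ sq₀ => ?_⟩
  -- reduce to affine targets
  suffices key : ∀ (T V : Over S) (z : (yon S).obj T ⟶ F ⨯ F) (f₀ : (yon S).obj V ⟶ F) (g₀ : V ⟶ T),
      IsAffine T.left → IsPullback f₀ ((yon S).map g₀) (Limits.diag F) z → P g₀.left by
    change P g₀.left
    refine IsZariskiLocalAtTarget.of_forall_exists_morphismRestrict fun x => ?_
    obtain ⟨Z, hZ, hxZ, -⟩ := exists_isAffineOpen_mem_and_subset (U := (⊤ : T.left.Opens)) (show x ∈ (⊤ : T.left.Opens) from trivial)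
    refine ⟨Z, hxZ, ?_⟩
    let T' : Over S := Over.mk (Z.ι ≫ T.hom)
    let j : T' ⟶ T := Over.homMk Z.ι rfl
    let W := pullback g₀ j
    have hsq := (IsPullback.of_hasPullback g₀ j).map (yon S)
    have h1 := key T' W ((yon S).map j ≫ z) _ _ hZ (hsq.paste_horiz sq₀)
    have sq3 := (IsPullback.of_hasPullback g₀ j).map (Over.forget S)
    have sq4 := (isPullback_morphismRestrict g₀.left Z).flip
    change P (g₀.left ∣_ Z)
    rw [← sq4.isoIsPullback_hom_snd _ _ sq3]
    exact (P.cancel_left_of_respectsIso _ _).2 h1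
  intro T V z f₀ g₀ hT sq₀
  let a := z ≫ prod.fst
  let b := z ≫ prod.snd
  let hb := hr' T b hT
  let fst : hb.pullback a ⟶ T := hb.snd a
  let snd : hb.pullback a ⟶ T := hb.fst' a
  have sq : IsPullback ((yon S).map fst) ((yon S).map snd) a b := (hb.isPullback' a).flip
  have sqd := isPullback_diag sq ((yon S).map prod.fst) ((yon S).map prod.snd) (yon_prod_ext)
    ((yon S).map (prod.lift fst snd)) (by rw [← Functor.map_comp, prod.lift_fst])
    (by rw [← Functor.map_comp, prod.lift_snd])
  have ez : (yon S).map (prod.lift (𝟙 T) (𝟙 T)) ≫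
      prod.lift ((yon S).map prod.fst ≫ a) ((yon S).map prod.snd ≫ b) = z := by
    apply prod.hom_ext
    · simp [a, ← Functor.map_comp_assoc]
    · simp [b, ← Functor.map_comp_assoc]
  let m : V ⟶ hb.pullback a := (yon S).preimage
    (sqd.lift f₀ ((yon S).map (g₀ ≫ prod.lift (𝟙 T) (𝟙 T))) (by rw [Functor.map_comp, Category.assoc, ez]; exact sq₀.w))
  have hm : (yon S).map m ≫ (yon S).map fst ≫ a = f₀ ∧ m ≫ prod.lift fst snd = g₀ ≫ prod.lift (𝟙 T) (𝟙 T) :=
    ⟨by rw [Functor.map_preimage, sqd.lift_fst],
      (yon S).map_injective (by rw [Functor.map_comp, Functor.map_preimage, sqd.lift_snd])⟩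
  have sq2 : IsPullback m g₀ (prod.lift fst snd) (prod.lift (𝟙 T) (𝟙 T)) := by
    refine IsPullback.of_map (yon S) hm.2 ?_
    refine IsPullback.of_right ?_ (by rw [← Functor.map_comp, ← Functor.map_comp, hm.2]) sqd
    rw [hm.1, ez]
    exact sq₀
  exact MorphismProperty.of_isPullback (sq2.map (Over.forget S)) (H T _ a b fst snd hT sq)

/-- The product over `S` of two affine schemes over `S` is separated. -/
theorem isSeparated_prod_left (U V : Over S) [IsAffine U.left] [IsAffine V.left] :
    Scheme.IsSeparated (U ⨯ V).left := by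
  let m : pullback U.hom V.hom ⟶ pullback (U.hom ≫ terminal.from S) (V.hom ≫ terminal.from S) :=
    pullback.mapDesc U.hom V.hom (terminal.from S)
  have : Mono m := ⟨fun c d h => by
    apply pullback.hom_ext
    · simpa [m] using h =≫ pullback.fst _ _
    · simpa [m] using h =≫ pullback.snd _ _⟩
  have : Mono ((Over.prodLeftIsoPullback U V).hom ≫ m) := mono_comp _ _
  refine ⟨?_⟩
  rw [terminal.hom_ext (terminal.from (U ⨯ V).left)
    (((Over.prodLeftIsoPullback U V).hom ≫ m) ≫ pullback.fst _ _ ≫ U.hom ≫ terminal.from S)]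
  have : IsSeparated (U.hom ≫ terminal.from S) := by
    rw [terminal.hom_ext (U.hom ≫ terminal.from S) (terminal.from U.left)]
    infer_instance
  have : IsSeparated (V.hom ≫ terminal.from S) := by
    rw [terminal.hom_ext (V.hom ≫ terminal.from S) (terminal.from V.left)]
    infer_instance
  infer_instance

end Groth.Agent.AlgSpPts

namespace Groth.Agent.AlgSpPts

universe u

open scoped TensorProduct

/-- A pushout of commutative rings is generated by the images of its two summands. -/
theorem closure_eq_top_of_isPushout {A B C D : CommRingCat.{u}} {f : A ⟶ B} {g : A ⟶ C} {i : B ⟶ D}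
    {j : C ⟶ D} (h : IsPushout f g i j) :
    Subring.closure (Set.range i.hom ∪ Set.range j.hom) = ⊤ := by
  let R := Subring.closure (Set.range i.hom ∪ Set.range j.hom)
  let i' : B ⟶ CommRingCat.of R :=
    CommRingCat.ofHom (i.hom.codRestrict R fun b => Subring.subset_closure (Or.inl ⟨b, rfl⟩))
  let j' : C ⟶ CommRingCat.of R :=
    CommRingCat.ofHom (j.hom.codRestrict R fun b => Subring.subset_closure (Or.inr ⟨b, rfl⟩))
  have w : f ≫ i' = g ≫ j' := by
    ext a
    exact congrArg (fun k : A ⟶ D => k.hom a) h.w
  have e : h.desc i' j' w ≫ CommRingCat.ofHom R.subtype = 𝟙 D := by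
    apply h.hom_ext
    · rw [IsPushout.inl_desc_assoc, Category.comp_id]; rfl
    · rw [IsPushout.inr_desc_assoc, Category.comp_id]; rfl
  rw [eq_top_iff]
  intro d _
  have hd : ((h.desc i' j' w).hom d).1 = d := congrArg (fun k => k.hom d) e
  rw [← hd]
  exact ((h.desc i' j' w).hom d).2

/-- A map from an affine scheme to a product of two affine schemes is a closed immersion iff the
tensor product of the rings of functions surjects. -/
theorem isClosedImmersion_iff_productMap {P U V : Scheme.{u}} [IsAffine P] [IsAffine U] [IsAffine V]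
    (fst : P ⟶ U) (snd : P ⟶ V) :
    IsClosedImmersion
        (pullback.lift fst snd (terminal.hom_ext _ _) : P ⟶ pullback (terminal.from U) (terminal.from V)) ↔
      Function.Surjective
        (Algebra.TensorProduct.productMap fst.appTop.hom.toIntAlgHom snd.appTop.hom.toIntAlgHom) := by
  let k : P ⟶ pullback (terminal.from U) (terminal.from V) := pullback.lift fst snd (terminal.hom_ext _ _)
  change IsClosedImmersion k ↔ _
  have hf : ∀ x, k.appTop.hom ((pullback.fst (terminal.from U) (terminal.from V)).appTop.hom x) = fst.appTop.hom x :=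
    fun x => congrArg (fun q : P ⟶ U => q.appTop.hom x) (pullback.lift_fst fst snd _)
  have hs : ∀ x, k.appTop.hom ((pullback.snd (terminal.from U) (terminal.from V)).appTop.hom x) = snd.appTop.hom x :=
    fun x => congrArg (fun q : P ⟶ V => q.appTop.hom x) (pullback.lift_snd fst snd _)
  constructor
  · intro hk
    let φ := Algebra.TensorProduct.productMap fst.appTop.hom.toIntAlgHom snd.appTop.hom.toIntAlgHom
    have hk' : Function.Surjective k.appTop.hom := k.app_surjective ⊤ (isAffineOpen_top _)
    have hle : (⊤ : Subring _) ≤ φ.toRingHom.range.comap k.appTop.hom := by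
      rw [← closure_eq_top_of_isPushout (isPushout_appTop_of_isPullback
        (IsPullback.of_hasPullback (terminal.from U) (terminal.from V))), Subring.closure_le]
      rintro _ (⟨x, rfl⟩ | ⟨x, rfl⟩)
      · exact ⟨x ⊗ₜ 1, by simp [φ, hf]⟩
      · exact ⟨1 ⊗ₜ x, by simp [φ, hs]⟩
    intro y
    obtain ⟨z, rfl⟩ := hk' y
    exact hle (Subring.mem_top z)
  · intro h
    refine IsClosedImmersion.of_surjective_of_isAffine k fun y => ?_
    obtain ⟨z, rfl⟩ := h y
    induction z using TensorProduct.induction_on with
    | zero => exact ⟨0, by rw [map_zero, map_zero]⟩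
    | tmul a b =>
      refine ⟨(pullback.fst (terminal.from U) (terminal.from V)).appTop.hom a *
        (pullback.snd (terminal.from U) (terminal.from V)).appTop.hom b, ?_⟩
      rw [map_mul, Algebra.TensorProduct.productMap_apply_tmul]
      erw [hf, hs]
      rfl
    | add z w hz hw =>
      obtain ⟨a, ha⟩ := hz
      obtain ⟨b, hb⟩ := hw
      exact ⟨a + b, by rw [map_add, map_add, ha, hb]⟩

/-- The comparison of the product over `S` with the absolute product. -/
noncomputable def prodToProd {S : Scheme.{u}} (U V : Over S) :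
    (U ⨯ V).left ⟶ pullback (terminal.from U.left) (terminal.from V.left) :=
  pullback.lift (prod.fst : U ⨯ V ⟶ U).left (prod.snd : U ⨯ V ⟶ V).left (terminal.hom_ext _ _)

theorem prodToProd_eq {S : Scheme.{u}} (U V : Over S) :
    prodToProd U V = (Over.prodLeftIsoPullback U V).hom ≫
      pullback.mapDesc U.hom V.hom (terminal.from S) ≫
      (pullback.congrHom (terminal.hom_ext _ _) (terminal.hom_ext _ _)).hom := by
  apply pullback.hom_ext
  · simp [prodToProd, Over.prodLeftIsoPullback_hom_fst]
  · simp [prodToProd, Over.prodLeftIsoPullback_hom_snd]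

theorem lift_prodToProd {S : Scheme.{u}} {P U V : Over S} (fst : P ⟶ U) (snd : P ⟶ V) :
    (prod.lift fst snd).left ≫ prodToProd U V = pullback.lift fst.left snd.left (terminal.hom_ext _ _) := by
  apply pullback.hom_ext
  · rw [Category.assoc, prodToProd, pullback.lift_fst, pullback.lift_fst, ← Over.comp_left, prod.lift_fst]
  · rw [Category.assoc, prodToProd, pullback.lift_snd, pullback.lift_snd, ← Over.comp_left, prod.lift_snd]

theorem mono_prodToProd {S : Scheme.{u}} (U V : Over S) : Mono (prodToProd U V) := by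
  have : Mono (pullback.mapDesc U.hom V.hom (terminal.from S)) := ⟨fun c d h => by
    apply pullback.hom_ext
    · simpa using h =≫ pullback.fst _ _
    · simpa using h =≫ pullback.snd _ _⟩
  rw [prodToProd_eq]
  infer_instance

theorem isClosedImmersion_prodToProd {S : Scheme.{u}} [S.IsSeparated] (U V : Over S) :
    IsClosedImmersion (prodToProd U V) := by
  rw [prodToProd_eq]
  infer_instance

end Groth.Agent.AlgSpPts
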