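import Mathlib.AlgebraicGeometry.Morphisms.FlatDescent
import Groth.Agent.AlgSpLib.Sheaf
import Groth.Agent.AlgSpLib.Rep
import Mathlib.AlgebraicGeometry.Sites.Fpqc
import Mathlib.CategoryTheory.MorphismProperty.Local

set_option backward.isDefEq.respectTransparency false
set_option backward.isDefEq.respectTransparency.types false

open CategoryTheory Limits Opposite AlgebraicGeometry MorphismProperty AlgSp Groth.Agent.AlgSpLib

namespace Groth.Agent.AlgSpPts

universe u

variable {S : Scheme.{u}}

/-- An fppf local property descends along locally surjective maps of sheaves. -/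
theorem repWith_of_locallySurjective {F G H Q : Sp S} {a : F ⟶ G} (ha : Representable a) (b : H ⟶ G)
    [Sheaf.IsLocallySurjective b] {b' : Q ⟶ F} {a' : Q ⟶ H} (sq : IsPullback b' a' a b)
    (P : MorphismProperty Scheme.{u}) [P.IsStableUnderBaseChange] [P.IsLocalAtTarget Scheme.fppfPrecoverage]
    (h : RepWith P a') : RepWith P a := by
  refine ⟨ha, fun T W t fst snd sqW => ?_⟩
  obtain ⟨R, hR, hlift⟩ := exists_covering_lifts b t
  rw [GrothendieckTopology.mem_over_iff] at hR
  have : (@Flat ⊓ @LocallyOfFinitePresentation : MorphismProperty Scheme.{u}).ContainsIdentities :=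
    ⟨fun X => ⟨inferInstanceAs (Flat (𝟙 X)), inferInstanceAs (LocallyOfFinitePresentation (𝟙 X))⟩⟩
  have : Scheme.fppfPrecoverage.HasIsos := inferInstanceAs (Scheme.precoverage (@Flat ⊓ @LocallyOfFinitePresentation)).HasIsos
  have : Scheme.fppfPrecoverage.HasPullbacks := ⟨fun {X} R f hR => inferInstance⟩
  obtain ⟨Rp, hRp, hle⟩ := Precoverage.mem_toGrothendieck_iff_of_isStableUnderComposition.1 hR
  refine MorphismProperty.IsLocalAtTarget.of_forall_pullbackSnd (K := Scheme.fppfPrecoverage) hRp ?_
  intro U g _ hg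
  let T' : Over S := Over.mk (g ≫ T.hom)
  let φ : T' ⟶ T := Over.homMk g rfl
  have hφ : R φ := (Sieve.overEquiv_iff R g).1 (hle _ _ hg)
  obtain ⟨l, hl⟩ := hlift φ hφ
  have sq1 : IsPullback (h.rep.fst l ≫ b') ((yon S).map (h.rep.snd l)) a ((yon S).map φ ≫ t) := by
    rw [← hl]
    exact (h.rep.isPullback l).paste_horiz sq
  let m : h.rep.pullback l ⟶ W := (yon S).preimage (sqW.lift (h.rep.fst l ≫ b')
    ((yon S).map (h.rep.snd l ≫ φ)) (by rw [Functor.map_comp, Category.assoc]; exact sq1.w))
  have hm : (yon S).map m ≫ fst = h.rep.fst l ≫ b' ∧ m ≫ snd = h.rep.snd l ≫ φ :=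
    ⟨by rw [Functor.map_preimage, sqW.lift_fst],
      (yon S).map_injective (by rw [Functor.map_comp, Functor.map_preimage, sqW.lift_snd])⟩
  have sq2 : IsPullback m (h.rep.snd l) snd φ := by
    refine IsPullback.of_map (yon S) hm.2 ?_
    refine IsPullback.of_right ?_ (by rw [← Functor.map_comp, ← Functor.map_comp, hm.2]) sqW
    rw [hm.1]
    exact sq1
  have sq3 : IsPullback m.left (h.rep.snd l).left snd.left g := sq2.map (Over.forget S)
  have h1 : P (h.rep.snd l).left := h.property_snd l
  change P (pullback.snd snd.left g)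
  rw [← sq3.isoPullback_hom_snd] at h1
  exact (P.cancel_left_of_respectsIso sq3.isoPullback.hom _).1 h1

end Groth.Agent.AlgSpPts

namespace Groth.Agent.AlgSpPts

universe u

/-- A Zariski local property descending along fpqc morphisms is fppf local at the target. -/
theorem isLocalAtTarget_fppf (P : MorphismProperty Scheme.{u}) [P.IsStableUnderBaseChange]
    [IsZariskiLocalAtTarget P] [P.DescendsAlong (@Surjective ⊓ @Flat ⊓ @QuasiCompact)] :
    P.IsLocalAtTarget Scheme.fppfPrecoverage where
  pullbackSnd _ _ hf _ := MorphismProperty.pullback_snd _ _ hf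
  of_forall_pullbackSnd {X Y f R} hR h := by
    obtain ⟨hsurj, hp⟩ : (∀ x : X, ∃ (U : Scheme.{u}) (g : U ⟶ X), R g ∧ x ∈ Set.range g) ∧
        ∀ {U : Scheme.{u}} (g : U ⟶ X), R g → Flat g ∧ LocallyOfFinitePresentation g := by
      rw [Scheme.fppfPrecoverage] at hR
      refine ⟨fun x => ?_, fun {U} g hg => hR.2 hg⟩
      obtain ⟨ι, U, g, rfl⟩ := Presieve.exists_eq_ofArrows R
      rw [Scheme.ofArrows_mem_precoverage_iff] at hR
      obtain ⟨i, hi⟩ := hR.1 x
      exact ⟨U i, g i, ⟨i⟩, hi⟩
    choose U g hg hx using hsurj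
    have (x : X) : Flat (g x) := (hp _ (hg x)).1
    have (x : X) : LocallyOfFinitePresentation (g x) := (hp _ (hg x)).2
    let G : ∐ U ⟶ X := Sigma.desc g
    have hι (x : X) : Sigma.ι U x ≫ G = g x := Sigma.ι_desc g x
    have : Flat G := IsZariskiLocalAtSource.of_openCover (sigmaOpenCover U) fun x => by
      change Flat (Sigma.ι U x ≫ G); rw [hι]; infer_instance
    have : LocallyOfFinitePresentation G := IsZariskiLocalAtSource.of_openCover (sigmaOpenCover U) fun x => by
      change LocallyOfFinitePresentation (Sigma.ι U x ≫ G); rw [hι]; infer_instance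
    have : Surjective G := ⟨fun x => by
      obtain ⟨u, hu⟩ := hx x
      exact ⟨Sigma.ι U x u, by rw [← Scheme.Hom.comp_apply, hι, hu]⟩⟩
    refine MorphismProperty.of_pullback_fst_of_descendsAlong
      (Q := @Surjective ⊓ @Flat ⊓ @LocallyOfFinitePresentation) (f := G)
      ⟨⟨inferInstance, inferInstance⟩, inferInstance⟩ ?_
    refine IsZariskiLocalAtTarget.of_openCover (sigmaOpenCover U) fun x => ?_
    have sq : IsPullback (pullback.snd (pullback.fst G f) (Sigma.ι U x))
        (pullback.fst (pullback.fst G f) (Sigma.ι U x) ≫ pullback.snd G f) (g x) f := by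
      rw [← hι x]
      exact (IsPullback.of_hasPullback (pullback.fst G f) (Sigma.ι U x)).flip.paste_vert
        (IsPullback.of_hasPullback G f)
    change P (pullback.snd (pullback.fst G f) (Sigma.ι U x))
    rw [← sq.flip.isoPullback_hom_snd]
    exact (P.cancel_left_of_respectsIso _ _).2 (h (hg x))

end Groth.Agent.AlgSpPts
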