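import Groth.Agent.AlgSpPts.Univ

set_option backward.isDefEq.respectTransparency false
set_option backward.isDefEq.respectTransparency.types false

open CategoryTheory Limits Opposite AlgebraicGeometry MorphismProperty AlgSp Groth.Agent.AlgSpLib Topology

namespace Groth.Agent.AlgSpPts

universe u

variable {S : Scheme.{u}} {Z X : Sp S}

theorem range_preimage {U V : Over S} {i : Z ⟶ X} {g : (yon S).obj U ⟶ X} {fst : (yon S).obj V ⟶ Z}
    {snd : V ⟶ U} (sq : IsPullback fst ((yon S).map snd) i g) :
    Points.ofPt g ⁻¹' Set.range (Points.map i) = Set.range snd.left := by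
  rw [← Set.image_univ, preimage_image sq, Set.preimage_univ, Set.image_univ]

theorem isLocallyClosed_range (hX : IsAlgSpace X) {i : Z ⟶ X} (hi : RepWith @IsImmersion i) :
    IsLocallyClosed (Set.range (Points.map i)) := by
  obtain ⟨U, a, he, hs⟩ := hX.atlas
  have h1 : IsLocallyClosed (Set.range (hi.rep.snd a).left) := by
    have : IsImmersion (hi.rep.snd a).left := hi.property_snd a
    exact (hi.rep.snd a).left.isLocallyClosed_range
  rw [← range_preimage (hi.rep.isPullback a), isLocallyClosed_iff_isOpen_coborder,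
    coborder_preimage (isOpenMap_ofPt he) (Points.continuous_ofPt a)] at h1
  rw [isLocallyClosed_iff_isOpen_coborder, isOpen_iff_chart he hs]
  exact h1

theorem isEmbedding_map (hX : IsAlgSpace X) {i : Z ⟶ X} (hi : RepWith @IsImmersion i) :
    IsEmbedding (Points.map i) := by
  refine ⟨?_, injective_map (repWith_mono (fun A B g hg => ?_) _ hi)⟩
  swap
  · have : IsImmersion g := hg
    exact g.isEmbedding.injective
  obtain ⟨U, a, he, hs⟩ := hX.atlas
  have hemb : IsEmbedding (hi.rep.snd a).left := by
    have : IsImmersion (hi.rep.snd a).left := hi.property_snd a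
    exact Scheme.Hom.isEmbedding _
  refine ⟨le_antisymm (continuous_iff_le_induced.1 (Points.continuous_map i)) ?_⟩
  intro A hA
  obtain ⟨O, hO, hOA⟩ := hemb.isInducing.isOpen_iff.1 (hA.preimage (Points.continuous_ofPt (hi.rep.fst a)))
  refine isOpen_induced_iff.2 ⟨Points.ofPt a '' O, isOpenMap_ofPt he _ hO, ?_⟩
  ext z
  constructor
  · rintro ⟨u, hu, huz⟩
    obtain ⟨v, rfl, rfl⟩ := exists_lift (hi.rep.isPullback a) huz.symm
    exact (Set.ext_iff.1 hOA v).1 hu
  · intro hz
    obtain ⟨t, ht⟩ := surjective_ofPt hs (Points.map i z)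
    obtain ⟨v, rfl, -⟩ := exists_lift (hi.rep.isPullback a) ht.symm
    exact ⟨(hi.rep.snd a).left v, (Set.ext_iff.1 hOA v).2 hz, (map_ofPt_fst (hi.rep.isPullback a) v).symm⟩

theorem repWith_isClosedImmersion_iff {i : Z ⟶ X} (hi : RepWith @IsImmersion i) :
    RepWith @IsClosedImmersion i ↔ IsClosed (Set.range (Points.map i)) := by
  refine ⟨fun h => (isClosedMap_map (repWith_mono (fun A B g (hg : IsClosedImmersion g) =>
    (inferInstance : UniversallyClosed g)) _ h)).isClosed_range, fun h => ?_⟩
  refine ⟨hi.1, fun T W g fst snd sq => ?_⟩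
  have : IsImmersion snd.left := hi.2 g fst snd sq
  have h1 := h.preimage (Points.continuous_ofPt g)
  rw [range_preimage sq] at h1
  exact IsClosedImmersion.of_isPreimmersion snd.left h1

end Groth.Agent.AlgSpPts
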