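import Groth.Agent.AlgSpLib.EtLocalInst
import Groth.Agent.AlgSpLib.Points
import Groth.Agent.AlgSpPts.Univ
import Groth.Prelude.Def_AlgSpDec
import Mathlib.AlgebraicGeometry.Properties
import Mathlib.Topology.Sober

set_option backward.isDefEq.respectTransparency false
set_option backward.isDefEq.respectTransparency.types false

open CategoryTheory Limits Opposite AlgebraicGeometry MorphismProperty AlgSp Groth.Agent.AlgSpLib Order

namespace Groth.Agent.AlgSpPts

universe u

attribute [local instance] specializationOrder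

/-- Locally quasi-finite morphisms are strictly monotone for specialisation. -/
theorem strictMono_of_lqf {X Y : Scheme.{u}} (f : X ⟶ Y) [LocallyQuasiFinite f] :
    StrictMono (f : ↥X → ↥Y) := by
  intro a b hab
  have hs : b ⤳ a := hab.le
  refine lt_of_le_of_ne (hs.map f.continuous : f b ⤳ f a) fun he => hab.ne ?_
  have := (f.isDiscrete_preimage_singleton (f a)).to_subtype
  have hb : b ∈ f ⁻¹' {f a} := he.symm
  have h1 : (⟨b, hb⟩ : ↥(f ⁻¹' {f a})) ⤳ ⟨a, rfl⟩ := (subtype_specializes_iff _ _).2 hs
  exact congrArg Subtype.val h1.eq.symm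

theorem exists_gt_of_flat {X Y : Scheme.{u}} (f : X ⟶ Y) [Flat f] {a : ↥X} {b : ↥Y} (h : f a < b) :
    ∃ a', a < a' ∧ f a' = b := by
  obtain ⟨a', ha', he⟩ := Flat.generalizingMap f (show b ⤳ f a from h.le)
  exact ⟨a', lt_of_le_of_ne (ha' : a' ⤳ a) fun e => h.ne (e ▸ he), he⟩

theorem coheight_le_of_flat {X Y : Scheme.{u}} (f : X ⟶ Y) [Flat f] (a : ↥X) :
    coheight (f a) ≤ coheight a := by
  refine coheight_le_iff'.mpr fun p hp => ?_
  induction p using RelSeries.inductionOn generalizing a with
  | singleton x => simp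
  | cons p x hx ih =>
    simp only [RelSeries.head_cons] at hp
    obtain ⟨a', ha', he⟩ := exists_gt_of_flat f (show f a < p.head by rw [← hp]; exact hx)
    have h1 := ih a' he.symm
    have h2 := coheight_add_one_le ha'
    simp only [RelSeries.cons_length, Nat.cast_add, Nat.cast_one]
    exact le_trans (add_le_add h1 le_rfl) h2

theorem coheight_eq_of_etale {X Y : Scheme.{u}} (f : X ⟶ Y) [Etale f] (a : ↥X) :
    coheight a = coheight (f a) :=
  le_antisymm (coheight_le_coheight_apply_of_strictMono _ (strictMono_of_lqf f) a) (coheight_le_of_flat f a)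

variable {S : Scheme.{u}} {F G : Sp S}

/-- The dimension of the local ring on an etale chart depends only on the point. -/
theorem coheight_eq_of_charts {U U' : Over S} {a : (yon S).obj U ⟶ F} {a' : (yon S).obj U' ⟶ F}
    (ha : RepWith @Etale a) (ha' : RepWith @Etale a') {u : ↥U.left} {u' : ↥U'.left}
    (h : Points.ofPt a u = Points.ofPt a' u') : coheight u = coheight u' := by
  obtain ⟨w, h1, h2⟩ := exists_ofPt_of_eq (ha.rep.isPullback' a') h
  have : Etale (ha.rep.snd a').left := ha.property_snd a'
  have : Etale (ha.rep.fst' a').left := ha'.property a _ _ (ha.rep.isPullback' a').flip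
  rw [← h1, ← h2, ← coheight_eq_of_etale, ← coheight_eq_of_etale]

/-- Chart diagram through a point for a locally `P` morphism: comparison of coheights. -/
theorem exists_chart_at {P : MorphismProperty Scheme.{u}} (hF : IsAlgSpace F) (hG : IsAlgSpace G) {f : F ⟶ G}
    (hf : LocP P f) (x : Points F) :
    ∃ (U V : Over S) (a : (yon S).obj U ⟶ F) (b : (yon S).obj V ⟶ G) (h : U ⟶ V) (u : ↥U.left),
      RepWith @Etale a ∧ RepWith @Etale b ∧ Points.ofPt a u = x ∧
      Points.ofPt b (h.left u) = Points.map f x ∧ P h.left := by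
  obtain ⟨U, V, a, b, h, ha, ha', hb, -, w⟩ := exists_chart hF hG f
  obtain ⟨u, rfl⟩ := surjective_ofPt ha' x
  exact ⟨U, V, a, b, h, u, ha, hb, rfl, by rw [Points.map_ofPt, w, ofPt_comp], hf a b h ha hb w⟩

theorem topologicalKrullDim_eq_krullDim (X : Scheme.{u}) : topologicalKrullDim ↥X = krullDim ↥X :=
  krullDim_eq_of_orderIso irreducibleSetEquivPoints

theorem coheight_le_dim {U : Over S} {a : (yon S).obj U ⟶ F} (ha : RepWith @Etale a) (u : ↥U.left) :
    (coheight u : WithBot ℕ∞) ≤ AlgSp.dim F := by
  refine le_trans ?_ (le_iSup₂_of_le U a (le_iSup_of_le ha le_rfl))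
  rw [topologicalKrullDim_eq_krullDim]
  exact coheight_le_krullDim u

theorem dim_le_iff {d : WithBot ℕ∞} :
    AlgSp.dim F ≤ d ↔ ∀ (U : Over S) (a : (yon S).obj U ⟶ F), RepWith @Etale a →
      ∀ u : ↥U.left, (coheight u : WithBot ℕ∞) ≤ d := by
  refine ⟨fun h U a ha u => (coheight_le_dim ha u).trans h, fun h => iSup₂_le fun U a => iSup_le fun ha => ?_⟩
  rw [topologicalKrullDim_eq_krullDim]
  exact iSup_le fun p => le_trans (WithBot.coe_le_coe.2 (length_le_coheight_head)) (h U a ha p.head)

end Groth.Agent.AlgSpPts
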