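import Groth.Agent.AlgSpLib.EtLocalInst
import Groth.Agent.AlgSpLib.Points
import Mathlib.AlgebraicGeometry.AlgClosed.Basic

set_option backward.isDefEq.respectTransparency false
set_option backward.isDefEq.respectTransparency.types false

open CategoryTheory Limits Opposite AlgebraicGeometry MorphismProperty AlgSp Groth.Agent.AlgSpLib

namespace Groth.Agent.AlgSpPts

universe u

variable {S : Scheme.{u}}

/-- An etale scheme over an algebraically closed field has a section through each point. -/
theorem exists_section_of_etale {K : Type u} [Field K] [IsAlgClosed K] {str : Spec (CommRingCat.of K) ⟶ S}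
    {W : Over S} (h : W ⟶ Over.mk str) [Etale h.left] (w : ↥W.left) :
    ∃ s : Over.mk str ⟶ W, s ≫ h = 𝟙 _ ∧ s.left (IsLocalRing.closedPoint K) = w := by
  let f : W.left ⟶ Spec (CommRingCat.of K) := h.left
  have : Etale f := ‹Etale h.left›
  have hd : DiscreteTopology ↥W.left := by
    have h1 := f.isDiscrete_preimage_singleton (IsLocalRing.closedPoint K)
    rw [show f ⁻¹' {IsLocalRing.closedPoint K} = Set.univ from
      Set.eq_univ_of_forall fun x => Subsingleton.elim _ _] at h1
    exact isDiscrete_univ_iff.1 h1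
  have hw : IsClosed ({w} : Set ↥W.left) := isClosed_discrete _
  let s₀ := pointOfClosedPoint f w hw
  have e : s₀ ≫ f = 𝟙 _ := pointOfClosedPoint_comp f w hw
  refine ⟨Over.homMk s₀ ?_, Over.OverMorphism.ext e, pointOfClosedPoint_apply f w hw _⟩
  change s₀ ≫ W.hom = str
  rw [← Over.w h]
  change s₀ ≫ f ≫ str = str
  rw [← Category.assoc, e, Category.id_comp]

/-- Geometric points lift along etale morphisms, through any given point over their image. -/
theorem exists_lift_geometric {F G : Sp S} (hF : IsAlgSpace F) (hG : IsAlgSpace G) {f : F ⟶ G}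
    (hf : LocP @Etale f) {K : Type u} [Field K] [IsAlgClosed K] {str : Spec (CommRingCat.of K) ⟶ S}
    (z : (yon S).obj (Over.mk str) ⟶ G) {u : Points F}
    (hu : Points.map f u = Points.ofPt z (IsLocalRing.closedPoint K)) :
    ∃ l : (yon S).obj (Over.mk str) ⟶ F, l ≫ f = z ∧ Points.ofPt l (IsLocalRing.closedPoint K) = u := by
  have hP := isAlgSpace_pullback hF (IsAlgSpace.yon_obj (Over.mk str)) hG f z
  have hsnd : LocP @Etale (pullback.snd f z) :=
    locP_of_isPullback (IsPullback.of_hasPullback f z) hF hG (IsAlgSpace.yon_obj _) hf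
  obtain ⟨W, a, ha, ha'⟩ := hP.atlas
  obtain ⟨h, hh⟩ := (yon S).map_surjective (a ≫ pullback.snd f z)
  have : Etale h.left :=
    hsnd a (𝟙 _) h ha (repWith_id _ _) (by rw [Category.comp_id, hh])
  obtain ⟨c, hc, -⟩ := exists_point_of_isPullback (IsPullback.of_hasPullback f z)
    (x := u) (y := Points.ofScheme (Over.mk str) (IsLocalRing.closedPoint K))
    (by rw [hu, Points.map_ofPt, Category.id_comp])
  obtain ⟨w, hw⟩ := surjective_ofPt ha' c
  obtain ⟨s, hs, hsw⟩ := exists_section_of_etale h w
  refine ⟨(yon S).map s ≫ a ≫ pullback.fst f z, ?_, ?_⟩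
  · rw [Category.assoc, Category.assoc, pullback.condition, ← Category.assoc a, ← hh,
      ← Category.assoc, ← Functor.map_comp, hs, CategoryTheory.Functor.map_id, Category.id_comp]
  · rw [ofPt_comp, hsw, ← Points.map_ofPt a, hw, hc]

end Groth.Agent.AlgSpPts
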