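import Groth.Agent.AlgSpPts.Descent
import Groth.Prelude.Def_AlgSpDec
import Mathlib.Algebra.Category.Ring.Epi

set_option backward.isDefEq.respectTransparency false
set_option backward.isDefEq.respectTransparency.types false

open CategoryTheory Limits Opposite AlgebraicGeometry MorphismProperty AlgSp Groth.Agent.AlgSpLib

namespace Groth.Agent.AlgSpPts

universe u

open scoped TensorProduct

theorem surjective_algebraMap_of_isEpi (K A : Type u) [Field K] [CommRing A] [Nontrivial A] [Algebra K A]
    [Algebra.IsEpi K A] : Function.Surjective (algebraMap K A) := by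
  intro a
  obtain ⟨φ, hφ⟩ := LinearMap.exists_leftInverse_of_injective (Algebra.linearMap K A)
    (LinearMap.ker_eq_bot.2 (algebraMap K A).injective)
  have h1 : φ 1 = 1 := by simpa using LinearMap.congr_fun hφ 1
  have h := congrArg (fun t => TensorProduct.lid K A (TensorProduct.map φ LinearMap.id t))
    ((Algebra.isEpi_iff_forall_one_tmul_eq K A).1 inferInstance a)
  simp [h1, Algebra.smul_def] at h
  exact ⟨φ a, h.symm⟩

/-- A monomorphism from a nonempty scheme to the spectrum of a field is an isomorphism. -/
theorem isIso_of_mono_to_field {X : Scheme.{u}} {K : Type u} [Field K]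
    (f : X ⟶ Spec (CommRingCat.of K)) [Mono f] [Nonempty ↥X] : IsIso f := by
  obtain ⟨x⟩ := ‹Nonempty ↥X›
  have hsub : Subsingleton ↥X := ⟨fun a b => f.injective (Subsingleton.elim _ _)⟩
  obtain ⟨W, hW, hxW, -⟩ := exists_isAffineOpen_mem_and_subset (U := (⊤ : X.Opens)) (x := x) trivial
  obtain rfl : W = ⊤ := eq_top_iff.2 fun y _ => (Subsingleton.elim x y) ▸ hxW
  have : IsAffine (⊤ : X.Opens).toScheme := hW
  have : IsAffine X := IsAffine.of_isIso X.topIso.inv (Y := (⊤ : X.Opens).toScheme)
  let g := X.isoSpec.inv ≫ f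
  have : Mono g := mono_comp _ _
  obtain ⟨φ, hφ⟩ := Spec.map_surjective g
  have : Mono (Scheme.Spec.map φ.op) := by
    change Mono (Spec.map φ)
    rw [hφ]; infer_instance
  have : Mono φ.op := Scheme.Spec.mono_of_mono_map this
  have : Epi φ := unop_epi_of_mono φ.op
  let _ := φ.hom.toAlgebra
  have : Algebra.IsEpi K Γ(X, ⊤) := CommRingCat.epi_iff_epi.1 (inferInstanceAs (Epi φ))
  have : Nonempty ↥(⊤ : X.Opens) := ⟨⟨x, trivial⟩⟩
  have : Nontrivial Γ(X, ⊤) := inferInstance
  have hbij : Function.Bijective φ.hom :=
    ⟨φ.hom.injective, surjective_algebraMap_of_isEpi K Γ(X, ⊤)⟩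
  have : IsIso φ := (ConcreteCategory.isIso_iff_bijective φ).2 hbij
  have : IsIso g := by rw [← hφ]; infer_instance
  exact IsIso.of_isIso_comp_left X.isoSpec.inv f

variable {S : Scheme.{u}}

/-- Two field-valued points at the same point, the first a monomorphism: the second factors uniquely. -/
theorem existsUnique_factor {F : Sp S} {K : Type u} [Field K]
    {str : Spec (CommRingCat.of K) ⟶ S} (p : (yon S).obj (Over.mk str) ⟶ F) (hp : Representable p) [Mono p]
    {L : Type u} [Field L] {str' : Spec (CommRingCat.of L) ⟶ S} (q : (yon S).obj (Over.mk str') ⟶ F)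
    (h : Points.ofPt p (IsLocalRing.closedPoint K) = Points.ofPt q (IsLocalRing.closedPoint L)) :
    ∃! c : Over.mk str' ⟶ Over.mk str, (yon S).map c ≫ p = q := by
  let snd : hp.pullback q ⟶ Over.mk str' := hp.snd q
  have sq := hp.isPullback q
  have : Mono ((yon S).map snd) := PullbackCone.mono_snd_of_is_pullback_of_mono sq.isLimit
  have : Mono snd := (yon S).mono_of_mono_map this
  obtain ⟨w, -, -⟩ := exists_ofPt_of_eq (hp.isPullback' q) h
  have : Nonempty ↥(hp.pullback q).left := ⟨w⟩
  have : Mono (snd.left : (hp.pullback q).left ⟶ Spec (CommRingCat.of L)) := inferInstanceAs (Mono snd.left)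
  have : IsIso snd.left := isIso_of_mono_to_field (K := L) snd.left
  have : IsIso ((Over.forget S).map snd) := this
  have : IsIso snd := isIso_of_reflects_iso snd (Over.forget S)
  refine ⟨inv snd ≫ hp.fst' q, ?_, fun c hc => ?_⟩
  · change (yon S).map (inv snd ≫ hp.fst' q) ≫ p = q
    rw [Functor.map_comp, Category.assoc, Functor.relativelyRepresentable.map_fst', hp.w q, ← Category.assoc,
      ← Functor.map_comp, IsIso.inv_hom_id, CategoryTheory.Functor.map_id, Category.id_comp]
  · apply (yon S).map_injective
    rw [← cancel_mono p, hc, Functor.map_comp, Category.assoc, Functor.relativelyRepresentable.map_fst',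
      hp.w q, ← Category.assoc, ← Functor.map_comp, IsIso.inv_hom_id, CategoryTheory.Functor.map_id, Category.id_comp]

end Groth.Agent.AlgSpPts
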