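import Groth.Agent.AlgSpPts.FppfTarget
import Groth.Prelude.Def_QuotSh
import Mathlib.CategoryTheory.Limits.Types.Pullbacks

set_option backward.isDefEq.respectTransparency false
set_option backward.isDefEq.respectTransparency.types false

open CategoryTheory Limits Opposite AlgebraicGeometry AlgSp Groth.Agent.AlgSpLib

namespace Groth.Agent.AlgSpPts

universe u

variable {S : Scheme.{u}} {R U : Over S} {s t : R ⟶ U}

/-- The relation on `T`-points given by an equivalence relation. -/
def eqvSetoid (h : IsEqvRel s t) (T : Over S) : Setoid (T ⟶ U) :=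
  ⟨fun a b => ∃ r : T ⟶ R, r ≫ t = a ∧ r ≫ s = b, h.equivalence T⟩

/-- The presheaf quotient of an equivalence relation. -/
def quotP (h : IsEqvRel s t) : (Over S)ᵒᵖ ⥤ Type (u + 1) where
  obj T := ULift.{u + 1} (Quotient (eqvSetoid h T.unop))
  map {T T'} f := ↾fun x => ⟨Quotient.map (fun a => f.unop ≫ a)
    (by rintro a b ⟨r, rfl, rfl⟩; exact ⟨f.unop ≫ r, Category.assoc _ _ _, Category.assoc _ _ _⟩) x.down⟩
  map_id T := by
    ext ⟨x⟩
    induction x using Quotient.inductionOn with
    | h a => simp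
  map_comp f g := by
    ext ⟨x⟩
    induction x using Quotient.inductionOn with
    | h a => simp

/-- The quotient map. -/
def quotPπ (h : IsEqvRel s t) : (yoneda.obj U ⋙ uliftFunctor.{u + 1, u}) ⟶ quotP h where
  app T := ↾fun a => ⟨Quotient.mk (eqvSetoid h T.unop) a.down⟩
  naturality T T' f := by ext a; rfl

/-- The presheaf map induced by a morphism. -/
abbrev yonMap {V W : Over S} (g : V ⟶ W) :
    (yoneda.obj V ⋙ uliftFunctor.{u + 1, u}) ⟶ (yoneda.obj W ⋙ uliftFunctor.{u + 1, u}) :=
  Functor.whiskerRight (yoneda.map g) uliftFunctor.{u + 1, u}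

theorem quotPπ_w (h : IsEqvRel s t) : yonMap s ≫ quotPπ h = yonMap t ≫ quotPπ h := by
  ext T ⟨a⟩
  exact congrArg ULift.up (Quotient.sound ((h.equivalence T.unop).symm ⟨a, rfl, rfl⟩))

theorem isPullback_quotPπ (h : IsEqvRel s t) :
    IsPullback (yonMap t) (yonMap s) (quotPπ h) (quotPπ h) := by
  refine IsPullback.of_forall_isPullback_app fun T => ?_
  rw [Types.isPullback_iff]
  refine ⟨?_, ?_, ?_⟩
  · exact (congrArg (fun q : _ ⟶ quotP h => q.app T) (quotPπ_w h)).symm
  · rintro ⟨a⟩ ⟨b⟩ ⟨h1, h2⟩
    exact congrArg ULift.up (h.injective T.unop a b (congrArg ULift.down h1) (congrArg ULift.down h2))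
  · rintro ⟨a⟩ ⟨b⟩ hab
    obtain ⟨r, h1, h2⟩ := Quotient.exact (congrArg ULift.down hab)
    exact ⟨⟨r⟩, congrArg ULift.up h1, congrArg ULift.up h2⟩

/-- An element of a representable presheaf. -/
abbrev el {V : Over S} {T : (Over S)ᵒᵖ} (a : T.unop ⟶ V) : (yoneda.obj V ⋙ uliftFunctor.{u + 1, u}).obj T :=
  ULift.up a

/-- The presheaf quotient is the coequalizer. -/
noncomputable def isColimitQuotP (h : IsEqvRel s t) : IsColimit (Cofork.ofπ (quotPπ h) (quotPπ_w h)) :=
  Cofork.IsColimit.mk _
    (fun c =>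
      { app := fun T => ↾fun x => Quotient.lift (fun a => c.π.app T (el a)) (by
          rintro _ _ ⟨r, rfl, rfl⟩
          exact (congrArg (fun q : _ ⟶ c.pt => q.app T (el r)) c.condition).symm) x.down
        naturality := fun T T' f => by
          ext ⟨x⟩
          induction x using Quotient.inductionOn with
          | h a => exact NatTrans.naturality_apply c.π f (el a) })
    (fun c => by ext T ⟨a⟩; rfl)
    (fun c m hm => by
      ext T ⟨x⟩
      induction x using Quotient.inductionOn with
      | h a => exact congrArg (fun q : _ ⟶ c.pt => q.app T (el a)) hm)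

/-- The kernel pair of the sheaf quotient map is the relation. -/
theorem isPullback_quotπ (K : Precoverage Scheme.{u}) (h : IsEqvRel s t) :
    IsPullback (QuotSh.repMap K t) (QuotSh.repMap K s) (QuotSh.quotπ K s t) (QuotSh.quotπ K s t) := by
  let a := presheafToSheaf (QuotSh.J K S) (Type (u + 1))
  have h1 : IsPullback (QuotSh.repMap K t) (QuotSh.repMap K s) (a.map (quotPπ h)) (a.map (quotPπ h)) :=
    (isPullback_quotPπ h).map a
  have hc : IsColimit (Cofork.ofπ (f := QuotSh.repMap K s) (g := QuotSh.repMap K t) (a.map (quotPπ h))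
      (by rw [← Functor.map_comp, quotPπ_w, Functor.map_comp])) :=
    isColimitCoforkMapOfIsColimit a (quotPπ_w h) (isColimitQuotP h)
  let e : a.obj (quotP h) ≅ QuotSh.quot K s t :=
    hc.coconePointUniqueUpToIso (colimit.isColimit (parallelPair (QuotSh.repMap K s) (QuotSh.repMap K t)))
  have he : a.map (quotPπ h) ≫ e.hom = QuotSh.quotπ K s t :=
    hc.comp_coconePointUniqueUpToIso_hom _ WalkingParallelPair.one
  exact IsPullback.of_iso h1 (Iso.refl _) (Iso.refl _) (Iso.refl _) e (by simp) (by simp)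
    (by simp [he]) (by simp [he])

/-- The quotient map from `h_U`. -/
noncomputable abbrev quotMap (s t : R ⟶ U) :
    (yon S).obj U ⟶ QuotSh.quot Scheme.fppfPrecoverage s t :=
  (QuotSh.repIsoUliftYoneda Scheme.fppfPrecoverage U).inv ≫ QuotSh.quotπ Scheme.fppfPrecoverage s t

theorem isPullback_quotMap (h : IsEqvRel s t) :
    IsPullback ((yon S).map t) ((yon S).map s) (quotMap s t) (quotMap s t) := by
  have nat : ∀ {V W : Over S} (g : V ⟶ W), (QuotSh.repIsoUliftYoneda Scheme.fppfPrecoverage V).hom ≫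
      (yon S).map g = QuotSh.repMap Scheme.fppfPrecoverage g ≫
        (QuotSh.repIsoUliftYoneda Scheme.fppfPrecoverage W).hom := fun {V W} g => by
    have e : (yon S).map g ≫ (QuotSh.repIsoUliftYoneda Scheme.fppfPrecoverage W).inv =
        (QuotSh.repIsoUliftYoneda Scheme.fppfPrecoverage V).inv ≫ QuotSh.repMap Scheme.fppfPrecoverage g :=
      ObjectProperty.hom_ext _ (toSheafify_naturality (QuotSh.J Scheme.fppfPrecoverage S) _)
    rw [← Iso.eq_inv_comp, ← Category.assoc, ← e, Category.assoc, Iso.inv_hom_id, Category.comp_id]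
  exact IsPullback.of_iso (isPullback_quotπ Scheme.fppfPrecoverage h)
    (QuotSh.repIsoUliftYoneda _ R) (QuotSh.repIsoUliftYoneda _ U) (QuotSh.repIsoUliftYoneda _ U) (Iso.refl _)
    (nat t).symm (nat s).symm (by simp) (by simp)

end Groth.Agent.AlgSpPts
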