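import Groth.Agent.AlgSpPts.UnivClosed
import Groth.Agent.AlgSpPts.Sep
import Mathlib.AlgebraicGeometry.ZariskisMainTheorem

set_option backward.isDefEq.respectTransparency false
set_option backward.isDefEq.respectTransparency.types false

open CategoryTheory Limits Opposite AlgebraicGeometry MorphismProperty AlgSp Groth.Agent.AlgSpLib Topology

namespace Groth.Agent.AlgSpPts

universe u

variable {S : Scheme.{u}}

/-- Quasi-compactness on points detects quasi-compactness of morphisms of schemes. -/
theorem quasiCompact_of_isQuasiCompactMor {V U : Over S} (g : V ⟶ U)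
    (h : IsQuasiCompactMor ((yon S).map g)) : QuasiCompact g.left := by
  refine (quasiCompact_iff _).2 fun O hO hO' => ?_
  let O' : U.left.Opens := ⟨O, hO⟩
  let Z : Over S := Over.mk (O'.ι ≫ U.hom)
  let j : Z ⟶ U := Over.homMk O'.ι rfl
  have : CompactSpace ↥Z.left := isCompact_iff_compactSpace.1 hO'
  have sq := (IsPullback.of_hasPullback g j).map (yon S)
  have := (isQuasiCompactSp_yon_iff (pullback g j)).1
    (h (IsAlgSpace.yon_obj Z) ((isQuasiCompactSp_yon_iff Z).2 inferInstance) _ _ _ sq)
  have e : g.left ⁻¹' O = Set.range (pullback.fst g j).left := by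
    have sq' : IsPullback (pullback.fst g j).left (pullback.snd g j).left g.left O'.ι :=
      (IsPullback.of_hasPullback g j).map (Over.forget S)
    ext v
    constructor
    · intro hv
      obtain ⟨w, hw, -⟩ := Scheme.Pullback.exists_preimage_pullback (f := g.left) (g := O'.ι) v ⟨g.left v, hv⟩ rfl
      exact ⟨sq'.isoPullback.inv w, by rw [← Scheme.Hom.comp_apply, sq'.isoPullback_inv_fst]; exact hw⟩
    · rintro ⟨w, rfl⟩
      change g.left ((pullback.fst g j).left w) ∈ O
      rw [← Scheme.Hom.comp_apply, sq'.w, Scheme.Hom.comp_apply]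
      exact ((pullback.snd g j).left w).2
  rw [e]
  exact isCompact_range (pullback.fst g j).left.continuous

theorem repWith_quasiCompact {F G : Sp S} {f : F ⟶ G} (hr : Representable f) (hf : IsQuasiCompactMor f) :
    RepWith @QuasiCompact f :=
  ⟨hr, fun _ _ g fst snd sq => quasiCompact_of_isQuasiCompactMor snd
    (fun Z Z' hZ hqc k fst' snd' sq' => hf hZ hqc (k ≫ g) (fst' ≫ fst) snd' (sq'.paste_horiz sq))⟩

theorem repWith_isClosedImmersion_of_univClosed {F G : Sp S} {f : F ⟶ G} (hr : Representable f) [Mono f]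
    (hl : RepWith @LocallyOfFiniteType f) (hf : IsUnivClosedMor f) : RepWith @IsClosedImmersion f := by
  have hu : RepWith (topologically @IsClosedMap).universally f :=
    repWith_universally_of_univSp (Q := IsClosedMor) (fun V U g hg => by
      change IsClosedMap g.left
      rw [left_eq_conj]
      exact (Points.schemeHomeo U).symm.isClosedMap.comp (hg.comp (Points.schemeHomeo V).isClosedMap)) hr hf
  refine ⟨hr, fun U V g fst snd sq => ?_⟩
  have : LocallyOfFiniteType snd.left := hl.2 g fst snd sq
  have : UniversallyClosed snd.left := ⟨hu.2 g fst snd sq⟩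
  have : Mono snd.left := (repWith_monomorphisms_of_mono hr).2 g fst snd sq
  have : IsProper snd.left := { }
  exact (IsClosedImmersion.iff_isProper_and_mono _).2 ⟨(by assumption : IsProper snd.left), (by assumption : Mono snd.left)⟩

variable {X Y B : Sp S} (f : X ⟶ Y) (q : Y ⟶ B)

/-- The comparison of the self products. -/
noncomputable abbrev selfMap : pullback (f ≫ q) (f ≫ q) ⟶ pullback q q :=
  pullback.map (f ≫ q) (f ≫ q) q q f f (𝟙 B) (by simp) (by simp)

theorem isPullback_map_left {Z : Sp S} (r : Z ⟶ B) :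
    IsPullback (pullback.fst (f ≫ q) r)
      (pullback.map (f ≫ q) r q r f (𝟙 Z) (𝟙 B) (by simp) (by simp)) f (pullback.fst q r) := by
  refine (IsPullback.of_right ?_ (pullback.lift_fst _ _ _) (IsPullback.of_hasPullback q r).flip).flip
  rw [pullback.lift_snd, Category.comp_id]
  exact (IsPullback.of_hasPullback (f ≫ q) r).flip

theorem isPullback_map_right {Z : Sp S} (r : Z ⟶ B) :
    IsPullback (pullback.snd r (f ≫ q))
      (pullback.map r (f ≫ q) r q (𝟙 Z) f (𝟙 B) (by simp) (by simp)) f (pullback.snd r q) := by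
  refine (IsPullback.of_right ?_ (pullback.lift_snd _ _ _) (IsPullback.of_hasPullback r q)).flip
  rw [pullback.lift_fst, Category.comp_id]
  exact IsPullback.of_hasPullback r (f ≫ q)

theorem selfMap_eq : selfMap f q =
    pullback.map (f ≫ q) (f ≫ q) q (f ≫ q) f (𝟙 X) (𝟙 B) (by simp) (by simp) ≫
      pullback.map q (f ≫ q) q q (𝟙 Y) f (𝟙 B) (by simp) (by simp) := by
  apply pullback.hom_ext <;> simp

theorem selfMap_univClosed_surjective (hX : IsAlgSpace X) (hY : IsAlgSpace Y) (hB : IsAlgSpace B)
    (hc : IsUnivClosedMor f) (hs : Function.Surjective (Points.map f)) :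
    IsUnivClosedMor (selfMap f q) ∧ Function.Surjective (Points.map (selfMap f q)) := by
  rw [selfMap_eq]
  refine ⟨isUnivClosedMor_comp (isAlgSpace_pullback hY hX hB q (f ≫ q)) (isAlgSpace_pullback hY hY hB q q)
    (isUnivClosedMor_of_isPullback (isPullback_map_left f q _) hc)
    (isUnivClosedMor_of_isPullback (isPullback_map_right f q _) hc), ?_⟩
  intro z
  obtain ⟨w, rfl⟩ := surjective_map_of_isPullback (isPullback_map_right f q q) hs z
  obtain ⟨v, rfl⟩ := surjective_map_of_isPullback (isPullback_map_left f q (f ≫ q)) hs w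
  exact ⟨v, Points.map_comp _ _ v⟩

/-- The two factorisations of a base change of `f ≫ Δ_q`. -/
theorem exists_factor_diagonal {Z Z' : Sp S} (g : Z ⟶ pullback q q) {fst : Z' ⟶ Y} {snd : Z' ⟶ Z}
    (sq : IsPullback fst snd (pullback.diagonal q) g) :
    ∃ (P : Sp S) (l₁ : P ⟶ Z') (l₂ : P ⟶ pullback (selfMap f q) g) (a₁ : P ⟶ X) (a₂ : P ⟶ X),
      IsPullback a₁ l₁ f fst ∧
      IsPullback a₂ l₂ (pullback.diagonal (f ≫ q)) (pullback.fst (selfMap f q) g) ∧
      l₁ ≫ snd = l₂ ≫ pullback.snd (selfMap f q) g := by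
  have e : pullback.diagonal (f ≫ q) ≫ selfMap f q = f ≫ pullback.diagonal q := by
    apply pullback.hom_ext <;> simp
  let P := pullback f fst
  let l₂ : P ⟶ pullback (selfMap f q) g :=
    pullback.lift (pullback.fst f fst ≫ pullback.diagonal (f ≫ q)) (pullback.snd f fst ≫ snd)
      (by rw [Category.assoc, e, ← Category.assoc, pullback.condition, Category.assoc, Category.assoc, sq.w])
  refine ⟨P, pullback.snd f fst, l₂, pullback.fst f fst, pullback.fst f fst, IsPullback.of_hasPullback f fst,
    ?_, (pullback.lift_snd _ _ _).symm⟩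
  refine IsPullback.flip (IsPullback.of_right ?_ (pullback.lift_fst _ _ _) (IsPullback.of_hasPullback (selfMap f q) g).flip)
    |>.flip |>.flip
  rw [pullback.lift_snd, e]
  exact ((IsPullback.of_hasPullback f fst).paste_vert sq).flip

theorem diag_descends (hX : IsAlgSpace X) (hY : IsAlgSpace Y) (hB : IsAlgSpace B)
    (hc : IsUnivClosedMor f) (hs : Function.Surjective (Points.map f)) :
    (IsQuasiSeparatedMor (f ≫ q) → IsQuasiSeparatedMor q) ∧ (IsSeparatedMor (f ≫ q) → IsSeparatedMor q) := by
  obtain ⟨hmc, hms⟩ := selfMap_univClosed_surjective f q hX hY hB hc hs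
  have hYY := isAlgSpace_pullback hY hY hB q q
  have hXX := isAlgSpace_pullback hX hX hB (f ≫ q) (f ≫ q)
  obtain ⟨hr, hl, -, -, hmono⟩ := diagonal_package hY hB q
  have hmq := isQuasiCompactMor_of_univClosed hXX hYY hmc
  have hmain : IsQuasiCompactMor (pullback.diagonal (f ≫ q)) →
      IsQuasiCompactMor (pullback.diagonal q) := by
    intro hd Z Z' hZ hqc g fst snd sq
    obtain ⟨P, l₁, l₂, a₁, a₂, sq₁, sq₂, hl'⟩ := exists_factor_diagonal f q g sq
    have hT' := hmq hZ hqc g _ _ (IsPullback.of_hasPullback (selfMap f q) g)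
    have hT'a := isAlgSpace_pullback hXX hZ hYY (selfMap f q) g
    have hP := hd hT'a hT' _ _ _ sq₂
    have hZ'a := isAlgSpace_of_isPullback sq hY hZ hYY
    have hPa := isAlgSpace_of_isPullback sq₁ hX hZ'a hY
    have := (isQuasiCompactSp_iff hPa).1 hP
    refine (isQuasiCompactSp_iff hZ'a).2 ⟨?_⟩
    rw [← (surjective_map_of_isPullback sq₁ hs).range_eq]
    exact isCompact_range (Points.continuous_map l₁)
  refine ⟨fun h => repWith_quasiCompact hr (hmain (isQuasiCompactMor_of_repWith h)), fun h => ?_⟩
  have : Mono (pullback.diagonal q) := mono_of_repWith hmono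
  refine repWith_isClosedImmersion_of_univClosed hr hl fun Z Z' hZ g fst snd sq => ?_
  obtain ⟨P, l₁, l₂, a₁, a₂, sq₁, sq₂, hl'⟩ := exists_factor_diagonal f q g sq
  have hT'a := isAlgSpace_pullback hXX hZ hYY (selfMap f q) g
  have h2 : IsClosedMap (Points.map l₂) :=
    isClosedMap_map (repWith_mono (fun A B k (hk : IsClosedImmersion k) => (inferInstance : UniversallyClosed k)) _
      (repWith_of_isPullback sq₂ h))
  have h3 : IsClosedMap (Points.map (pullback.snd (selfMap f q) g)) :=
    hmc hZ g _ _ (IsPullback.of_hasPullback (selfMap f q) g)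
  intro A hA
  have e : Points.map snd '' A = Points.map (pullback.snd (selfMap f q) g) '' (Points.map l₂ '' (Points.map l₁ ⁻¹' A)) := by
    conv_lhs => rw [← Set.image_preimage_eq A (surjective_map_of_isPullback sq₁ hs)]
    rw [← Set.image_comp, ← Set.image_comp]
    refine Set.image_congr fun x _ => ?_
    change Points.map snd (Points.map l₁ x) = Points.map _ (Points.map l₂ x)
    rw [← Points.map_comp, ← Points.map_comp, hl']
  rw [e]
  exact h3 _ (h2 _ (hA.preimage (Points.continuous_map l₁)))

end Groth.Agent.AlgSpPts
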