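import Groth.Agent.AlgSpLib.EtLocalInst
import Groth.Agent.AlgSpLib.Points
import Groth.Prelude.Def_AlgSpDec

set_option backward.isDefEq.respectTransparency false
set_option backward.isDefEq.respectTransparency.types false

open CategoryTheory Limits Opposite AlgebraicGeometry MorphismProperty AlgSp Groth.Agent.AlgSpLib

namespace Groth.Agent.AlgSpPts

universe u

/-- The seven properties occurring in the `LocP` statements. -/
theorem seven_props (P : MorphismProperty Scheme.{u})
    (hP : P = @LocallyOfFiniteType ∨ P = @LocallyOfFinitePresentation ∨ P = @Flat ∨ P = @Smooth ∨ P = @Etale ∨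
      (∀ ⦃A B : Scheme.{u}⦄ (g : A ⟶ B), P g ↔ (LocallyQuasiFinite g ∧ LocallyOfFiniteType g)) ∨
      (∀ ⦃A B : Scheme.{u}⦄ (g : A ⟶ B), P g ↔ (LocallyOfFiniteType g ∧ FormallyUnramified g))) :
    IsEtLocal P ∧ P.IsStableUnderComposition ∧ IsZariskiLocalAtSource P := by
  rcases hP with rfl | rfl | rfl | rfl | rfl | h | h
  all_goals try exact ⟨inferInstance, inferInstance, inferInstance⟩
  · obtain rfl : P = (@LocallyQuasiFinite ⊓ @LocallyOfFiniteType : MorphismProperty Scheme.{u}) := by
      funext A B g; exact propext (h g)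
    exact ⟨inferInstance, inferInstance, inferInstance⟩
  · obtain rfl : P = (@LocallyOfFiniteType ⊓ @FormallyUnramified : MorphismProperty Scheme.{u}) := by
      funext A B g; exact propext (h g)
    exact ⟨inferInstance, inferInstance, inferInstance⟩

/-- An etale local property which holds in some chart around each point holds etale locally. -/
theorem locP_of_hasAt {S : Scheme.{u}} {P : MorphismProperty Scheme.{u}} [IsEtLocal P] [IsZariskiLocalAtSource P]
    {F G : Sp S} {f : F ⟶ G}
    (H : ∀ x : Points F, HasAtMor (fun U _ h u => ∃ W : U.Opens, u ∈ W ∧ P (W.ι ≫ h)) f x) :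
    LocP P f := by
  intro U' V' a' b' h' ha₁ hb₁ w'
  have key : ∀ u₀ : ↥U'.left, ∃ W₀ : U'.left.Opens, u₀ ∈ W₀ ∧ P (W₀.ι ≫ h'.left) := by
    intro u₀
    obtain ⟨U, V, a, b, h, u, ha, hb, w, hu, W, huW, hP⟩ := H (Points.ofPt a' u₀)
    let j : Over.mk (W.ι ≫ U.hom) ⟶ U := Over.homMk W.ι rfl
    let aW := (yon S).map j ≫ a
    have haW : RepWith @Etale aW :=
      repWith_comp ((repWith_yon_map_iff _ _).2 (inferInstanceAs (Etale W.ι))) ha
    have wW : aW ≫ f = (yon S).map (j ≫ h) ≫ b := by
      rw [Category.assoc, w, Functor.map_comp, Category.assoc]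
    let p : haW.rep.pullback a' ⟶ U' := haW.rep.snd a'
    let q := haW.rep.fst' a'
    have hp : Etale p.left := haW.property_snd a'
    have hq : Etale q.left := ha₁.property aW _ _ (haW.rep.isPullback' a').flip
    have hw : (yon S).map (p ≫ h') ≫ b' = (yon S).map (q ≫ j ≫ h) ≫ b := by
      rw [Functor.map_comp, Functor.map_comp _ q, Category.assoc, Category.assoc, ← wW, ← w',
        ← Category.assoc, ← Category.assoc]
      congr 1
      exact (haW.rep.w a').symm.trans (by rw [Functor.relativelyRepresentable.map_fst'])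
    let k : haW.rep.pullback a' ⟶ hb.rep.pullback b' :=
      hb.rep.lift' (q ≫ j ≫ h) (p ≫ h') hw.symm
    have hk : P k.left := by
      have he : Etale (hb.rep.fst' b').left := hb₁.property b _ _ (hb.rep.isPullback' b').flip
      apply IsEtLocal.cancel_right _ (hb.rep.fst' b').left
      rw [← Over.comp_left, Functor.relativelyRepresentable.lift'_fst, Over.comp_left]
      exact IsEtLocal.precomp _ _ hq hP
    have hph : P (p.left ≫ h'.left) := by
      rw [← Over.comp_left, ← hb.rep.lift'_snd (q ≫ j ≫ h) (p ≫ h') hw.symm, Over.comp_left]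
      exact IsEtLocal.postcomp _ _ hk (hb.property_snd b')
    let W₀ : U'.left.Opens := ⟨Set.range p.left, p.left.isOpenMap.isOpen_range⟩
    have hu₀ : u₀ ∈ W₀ := by
      have h1 : Points.ofPt aW (⟨u, huW⟩ : ↥(W : Scheme.{u})) = Points.ofPt a' u₀ := by
        refine Eq.trans ?_ hu
        exact (ofPt_comp j a _).trans rfl
      obtain ⟨z, -, hz⟩ := exists_ofPt_of_eq (haW.rep.isPullback' a') h1
      exact ⟨z, hz⟩
    let p₀ := IsOpenImmersion.lift W₀.ι p.left (by rw [Scheme.Opens.range_ι]; exact le_refl _)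
    have hfac : p₀ ≫ W₀.ι = p.left := IsOpenImmersion.lift_fac _ _ _
    have he₀ : Etale p₀ := IsEtLocal.cancel_right (P := @Etale) p₀ W₀.ι (by rw [hfac]; exact hp)
    have hs₀ : Surjective p₀ := ⟨fun x => by
      obtain ⟨z, hz⟩ := x.2
      refine ⟨z, Subtype.ext ?_⟩
      rw [← hz, ← hfac]
      rfl⟩
    refine ⟨W₀, hu₀, IsEtLocal.of_precomp p₀ _ he₀ hs₀ ?_⟩
    rwa [← Category.assoc, hfac]
  choose W hW hPW using key
  exact IsZariskiLocalAtSource.of_iSup_eq_top W (eq_top_iff.2 fun x _ =>
    TopologicalSpace.Opens.mem_iSup.2 ⟨x, hW x⟩) hPW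

/-- Conversely, an etale locally valid property holds in some chart around each point. -/
theorem hasAt_of_locP {S : Scheme.{u}} {P : MorphismProperty Scheme.{u}} [IsEtLocal P]
    {F G : Sp S} {f : F ⟶ G} (hF : IsAlgSpace F) (hG : IsAlgSpace G) (hf : LocP P f) (x : Points F) :
    HasAtMor (fun U _ h u => ∃ W : U.Opens, u ∈ W ∧ P (W.ι ≫ h)) f x := by
  obtain ⟨U, V, a, b, h, ha, ha', hb, -, w⟩ := exists_chart hF hG f
  obtain ⟨u, hu⟩ := surjective_ofPt ha' x
  exact ⟨U, V, a, b, h, u, ha, hb, w, hu, ⊤, trivial,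
    IsEtLocal.precomp _ _ inferInstance (hf a b h ha hb w)⟩

end Groth.Agent.AlgSpPts
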