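import Groth.Prelude.Def_AlgSpRep
import Mathlib.CategoryTheory.Filtered.Final
import Mathlib.CategoryTheory.Limits.Types.Filtered

set_option backward.isDefEq.respectTransparency false
set_option backward.isDefEq.respectTransparency.types false

open CategoryTheory Limits Opposite AlgebraicGeometry AlgSp

namespace Groth.Agent.AlgSpPts

universe u

variable {S : Scheme.{u}}

/-- Elementwise form of "relatively limit preserving". -/
structure RelLP {F G : PSp S} (a : F ⟶ G) : Prop where
  surj : ∀ ⦃I : Type u⦄ [SmallCategory I] [IsCofiltered I] (D : I ⥤ Over S) (c : Cone D),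
    IsLimit ((Over.forget S).mapCone c) → (∀ i, IsAffine (D.obj i).left) → IsAffine c.pt.left →
    ∀ (i : I) (y : G.obj (op (D.obj i))) (x : F.obj (op c.pt)), a.app _ x = G.map (c.π.app i).op y →
      ∃ (k : I) (f : k ⟶ i) (z : F.obj (op (D.obj k))),
        a.app _ z = G.map (D.map f).op y ∧ F.map (c.π.app k).op z = x
  inj : ∀ ⦃I : Type u⦄ [SmallCategory I] [IsCofiltered I] (D : I ⥤ Over S) (c : Cone D),
    IsLimit ((Over.forget S).mapCone c) → (∀ i, IsAffine (D.obj i).left) → IsAffine c.pt.left →
    ∀ (i : I) (x x' : F.obj (op (D.obj i))), a.app _ x = a.app _ x' →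
      F.map (c.π.app i).op x = F.map (c.π.app i).op x' →
      ∃ (k : I) (f : k ⟶ i), F.map (D.map f).op x = F.map (D.map f).op x'

theorem map_map' (F : PSp S) {A B C : Over S} (f : A ⟶ B) (g : B ⟶ C) (x : F.obj (op C)) :
    F.map f.op (F.map g.op x) = F.map (f ≫ g).op x := by
  rw [op_comp, Functor.map_comp_apply]

theorem app_map' {F G : PSp S} (a : F ⟶ G) {A B : Over S} (f : A ⟶ B) (x : F.obj (op B)) :
    a.app _ (F.map f.op x) = G.map f.op (a.app _ x) := NatTrans.naturality_apply a f.op x

theorem fiber_ι_coe {F G : PSp S} (a : F ⟶ G) (T : Over S) (y : G.obj (op T)) {I : Type u} [SmallCategory I]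
    {D : I ⥤ Over T.left} (c : Cone D) (i : Iᵒᵖ) (x : (fiberFun a T y).obj (op (D.obj i.unop))) :
    ((((fiberFun a T y).mapCocone c.op).ι.app i) x).1 =
      F.map ((Over.map T.hom).map (c.π.app i.unop)).op x.1 := rfl

theorem relLP_of_isRelLimitPreserving {F G : PSp S} {a : F ⟶ G} (ha : IsRelLimitPreserving a) :
    RelLP a := by
  have key : ∀ ⦃I : Type u⦄ [SmallCategory I] [IsCofiltered I] (D : I ⥤ Over S) (c : Cone D),
    IsLimit ((Over.forget S).mapCone c) → (∀ i, IsAffine (D.obj i).left) → IsAffine c.pt.left →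
    ∀ (i : I) (y : G.obj (op (D.obj i))),
      (∀ (x : F.obj (op c.pt)), a.app _ x = G.map (c.π.app i).op y →
        ∃ (k : I) (f : k ⟶ i) (z : F.obj (op (D.obj k))),
          a.app _ z = G.map (D.map f).op y ∧ F.map (c.π.app k).op z = x) ∧
      (∀ (x x' : F.obj (op (D.obj i))), a.app _ x = y → a.app _ x' = y →
        F.map (c.π.app i).op x = F.map (c.π.app i).op x' →
        ∃ (k : I) (f : k ⟶ i), F.map (D.map f).op x = F.map (D.map f).op x') := by
    intro I _ _ D c hc hD hT i y
    let T₀ := D.obj i
    let D' : CategoryTheory.Over i ⥤ Over T₀.left :=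
      { obj := fun f => Over.mk (D.map f.hom).left
        map := fun {f g} h => Over.homMk (D.map h.left).left (by
          change (D.map h.left).left ≫ (D.map g.hom).left = (D.map f.hom).left
          rw [← Over.comp_left, ← D.map_comp, Over.w h])
        map_id := fun f => by ext; simp
        map_comp := fun f g => by ext; simp }
    let c' : Cone D' :=
      { pt := Over.mk (c.π.app i).left
        π :=
          { app := fun f => Over.homMk (c.π.app f.left).left (by
              change (c.π.app f.left).left ≫ (D.map f.hom).left = (c.π.app i).left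
              rw [← Over.comp_left]
              exact congrArg CommaMorphism.left (c.w f.hom))
            naturality := fun f g h => by
              ext
              simp [D']
              rw [← Over.comp_left, c.w] } }
    have hc' : IsLimit ((Over.forget T₀.left).mapCone c') :=
      (Functor.Initial.isLimitWhiskerEquiv (CategoryTheory.Over.forget i) _).symm hc
    obtain ⟨hcol⟩ := ha T₀ y D' c' hc' (fun f => hD f.left) hT
    -- the comparisons of the two ways of regarding the stages as schemes over `S`
    let e : ∀ f : CategoryTheory.Over i, (Over.map T₀.hom).obj (D'.obj f) ⟶ D.obj f.left := fun f =>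
      Over.homMk (𝟙 _) ((Category.id_comp _).trans (Over.w (D.map f.hom)).symm)
    let e' : ∀ f : CategoryTheory.Over i, D.obj f.left ⟶ (Over.map T₀.hom).obj (D'.obj f) := fun f =>
      Over.homMk (𝟙 _) ((Category.id_comp _).trans (Over.w (D.map f.hom)))
    let d : (Over.map T₀.hom).obj c'.pt ⟶ c.pt :=
      Over.homMk (𝟙 _) ((Category.id_comp _).trans (Over.w (c.π.app i)).symm)
    let d' : c.pt ⟶ (Over.map T₀.hom).obj c'.pt :=
      Over.homMk (𝟙 _) ((Category.id_comp _).trans (Over.w (c.π.app i)))
    refine ⟨fun x hx => ?_, fun x x' hx hx' hxx => ?_⟩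
    · let xx : (fiberFun a T₀ y).obj (op c'.pt) := ⟨F.map d.op x, by
        refine (app_map' a d x).trans ((congrArg _ hx).trans ((map_map' G d (c.π.app i) y).trans ?_))
        rw [show d ≫ c.π.app i = overHom T₀ c'.pt from
          Over.OverMorphism.ext (Category.id_comp _)]⟩
      obtain ⟨f, z, hz⟩ := Types.jointly_surjective_of_isColimit hcol xx
      refine ⟨f.unop.left, f.unop.hom, F.map (e' f.unop).op z.1, ?_, ?_⟩
      · refine (app_map' a (e' f.unop) z.1).trans ((congrArg _ z.2).trans
          ((map_map' G (e' f.unop) (overHom T₀ (D'.obj f.unop)) y).trans ?_))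
        rw [show e' f.unop ≫ overHom T₀ (D'.obj f.unop) = D.map f.unop.hom from
          Over.OverMorphism.ext (Category.id_comp _)]
      · have h1 := congrArg Subtype.val hz
        rw [fiber_ι_coe] at h1
        have h2 := (map_map' F d' ((Over.map T₀.hom).map (c'.π.app f.unop)) z.1).symm.trans
          (congrArg (F.map d'.op) h1)
        refine (map_map' F _ (e' f.unop) z.1).trans (Eq.trans ?_ (h2.trans ((map_map' F d' d x).trans ?_)))
        · congr 3
        · rw [show d' ≫ d = 𝟙 _ from
            Over.OverMorphism.ext (Category.id_comp _), op_id, Functor.map_id_apply]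
    · let f₀ : CategoryTheory.Over i := CategoryTheory.Over.mk (𝟙 i)
      have hover : e f₀ = overHom T₀ (D'.obj f₀) :=
        Over.OverMorphism.ext (show 𝟙 (D.obj i).left = (D.map (𝟙 i)).left by simp)
      let z : (fiberFun a T₀ y).obj (op (D'.obj f₀)) := ⟨F.map (e f₀).op x, by
        rw [NatTrans.naturality_apply, ← hover]; exact congrArg _ hx⟩
      let z' : (fiberFun a T₀ y).obj (op (D'.obj f₀)) := ⟨F.map (e f₀).op x', by
        rw [NatTrans.naturality_apply, ← hover]; exact congrArg _ hx'⟩
      have hzz : ((fiberFun a T₀ y).mapCocone c'.op).ι.app (op f₀) z =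
          ((fiberFun a T₀ y).mapCocone c'.op).ι.app (op f₀) z' := by
        apply Subtype.ext
        rw [fiber_ι_coe, fiber_ι_coe]
        have hh : (Over.map T₀.hom).map (c'.π.app f₀) ≫ e f₀ = d ≫ c.π.app i :=
          Over.OverMorphism.ext (by simp [e, d, c', f₀])
        refine (map_map' F ((Over.map T₀.hom).map (c'.π.app f₀)) (e f₀) x).trans (Eq.trans ?_
          (map_map' F ((Over.map T₀.hom).map (c'.π.app f₀)) (e f₀) x').symm)
        rw [hh]
        exact (map_map' F d (c.π.app i) x).symm.trans ((congrArg _ hxx).trans (map_map' F d (c.π.app i) x'))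
      obtain ⟨g, φ, hφ⟩ := (Types.FilteredColimit.isColimit_eq_iff' hcol z z').1 hzz
      refine ⟨g.unop.left, g.unop.hom, ?_⟩
      have h1 := congrArg (fun w => F.map (e' g.unop).op (Subtype.val w)) hφ
      have hφ' : e' g.unop ≫ (Over.map T₀.hom).map (D'.map φ.unop) ≫ e f₀ = D.map g.unop.hom := by
        apply Over.OverMorphism.ext
        have hw : φ.unop.left = g.unop.hom := (Category.comp_id _).symm.trans (Over.w φ.unop)
        rw [← hw]
        exact (Category.id_comp _).trans (Category.comp_id _)
      rw [← hφ']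
      exact (map_map' F (e' g.unop) _ x).symm.trans (((congrArg _ (map_map' F _ (e f₀) x).symm).trans
        (h1.trans (congrArg _ (map_map' F _ (e f₀) x')))).trans (map_map' F (e' g.unop) _ x'))
  refine ⟨fun I _ _ D c hc hD hT i y x hx => (key D c hc hD hT i y).1 x hx,
    fun I _ _ D c hc hD hT i x x' h h' => ?_⟩
  exact (key D c hc hD hT i (a.app _ x')).2 x x' h rfl h'

theorem isRelLimitPreserving_of_relLP {F G : PSp S} {a : F ⟶ G} (ha : RelLP a) :
    IsRelLimitPreserving a := by
  intro T y I _ _ D c hc hD hT
  let E := D ⋙ Over.map T.hom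
  let cE : Cone E := (Over.map T.hom).mapCone c
  have hcE : IsLimit ((Over.forget S).mapCone cE) := hc
  refine ⟨Types.FilteredColimit.isColimitOf' _ _ (fun x => ?_) (fun i x x' h => ?_)⟩
  · obtain ⟨i⟩ := IsCofiltered.nonempty (C := I)
    have hx : a.app _ x.1 = G.map (cE.π.app i).op (G.map (overHom T (D.obj i)).op y) := by
      refine x.2.trans (Eq.trans ?_ (map_map' G (cE.π.app i) (overHom T (D.obj i)) y).symm)
      exact congrArg (fun k => G.map k.op y) (map_comp_overHom T (c.π.app i)).symm
    obtain ⟨k, f, z, hz, hzx⟩ := ha.surj E cE hcE hD hT i _ x.1 hx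
    refine ⟨op k, ⟨z, hz.trans ?_⟩, Subtype.ext hzx.symm⟩
    refine (map_map' G (E.map f) (overHom T (D.obj i)) y).trans ?_
    exact congrArg (fun k => G.map k.op y) (map_comp_overHom T (D.map f))
  · obtain ⟨k, f, hk⟩ := ha.inj E cE hcE hD hT i.unop x.1 x'.1 (x.2.trans x'.2.symm)
      (congrArg Subtype.val h)
    exact ⟨op k, f.op, Subtype.ext hk⟩

theorem isRelLimitPreserving_iff {F G : PSp S} (a : F ⟶ G) : IsRelLimitPreserving a ↔ RelLP a :=
  ⟨relLP_of_isRelLimitPreserving, isRelLimitPreserving_of_relLP⟩

end Groth.Agent.AlgSpPts
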