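import Groth.Agent.AlgSpPts.FTPointsAlg
import Groth.Agent.AlgSpPts.Univ
import Groth.Agent.AlgSpLib.EtLocalInst
import Groth.Prelude.Def_AlgSpDec
import Mathlib.AlgebraicGeometry.Morphisms.Finite

set_option backward.isDefEq.respectTransparency false
set_option backward.isDefEq.respectTransparency.types false

open CategoryTheory Limits Opposite AlgebraicGeometry MorphismProperty AlgSp Groth.Agent.AlgSpLib

namespace Groth.Agent.AlgSpPts

universe u

/-- The image of a finite type point is closed in an open neighbourhood. -/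
theorem exists_open_isClosed_singleton {U : Scheme.{u}} {K : Type u} [Field K]
    (h : Spec (CommRingCat.of K) ⟶ U) [LocallyOfFiniteType h] :
    ∃ (W : U.Opens) (hu : h (IsLocalRing.closedPoint K) ∈ W),
      IsClosed ({⟨_, hu⟩} : Set ↥(W : Scheme.{u})) := by
  obtain ⟨O, hO, huO, -⟩ := exists_isAffineOpen_mem_and_subset (U := (⊤ : U.Opens))
    (x := h (IsLocalRing.closedPoint K)) trivial
  let h₀ : Spec (CommRingCat.of K) ⟶ O.toScheme := IsOpenImmersion.lift O.ι h (by
    rw [Scheme.Opens.range_ι]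
    rintro _ ⟨z, rfl⟩
    rwa [Subsingleton.elim z (IsLocalRing.closedPoint K)])
  have e₀ : h₀ ≫ O.ι = h := IsOpenImmersion.lift_fac _ _ _
  have : LocallyOfFiniteType (h₀ ≫ O.ι) := by rw [e₀]; infer_instance
  have : LocallyOfFiniteType h₀ := locallyOfFiniteType_of_comp h₀ O.ι
  have : IsAffine O.toScheme := hO
  let e := O.toScheme.isoSpec
  have : LocallyOfFiniteType (h₀ ≫ e.hom) := inferInstance
  obtain ⟨φ, hφ⟩ := Spec.map_surjective (h₀ ≫ e.hom)
  have hft : φ.hom.FiniteType := by
    rw [← HasRingHomProperty.Spec_iff (P := @LocallyOfFiniteType), hφ]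
    infer_instance
  obtain ⟨f, hf, hq⟩ := exists_eq_ker_of_finiteType φ.hom hft
  let W : U.Opens := O.ι ''ᵁ (e.hom ⁻¹ᵁ PrimeSpectrum.basicOpen f)
  have hpt : ∀ z, (h₀ ≫ e.hom) z = (Spec.map φ) z := fun z => by rw [hφ]
  have hker : ((Spec.map φ) (IsLocalRing.closedPoint K)).asIdeal = RingHom.ker φ.hom := by
    change Ideal.comap φ.hom (IsLocalRing.closedPoint K).asIdeal = _
    rw [show (IsLocalRing.closedPoint K).asIdeal = ⊥ from IsLocalRing.maximalIdeal_eq_bot]
    rfl
  have hu : h (IsLocalRing.closedPoint K) ∈ W := by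
    refine ⟨h₀ (IsLocalRing.closedPoint K), ?_, congrArg (fun q : Spec (CommRingCat.of K) ⟶ U => q (IsLocalRing.closedPoint K)) e₀⟩
    change (h₀ ≫ e.hom) (IsLocalRing.closedPoint K) ∈ PrimeSpectrum.basicOpen f
    rw [hpt, PrimeSpectrum.mem_basicOpen, hker]
    exact hf
  refine ⟨W, hu, ?_⟩
  have e1 : ({⟨_, hu⟩} : Set ↥(W : Scheme.{u})) =
      Subtype.val ⁻¹' (closure {h (IsLocalRing.closedPoint K)}) := by
    ext ⟨w, hw⟩
    constructor
    · intro hw'
      rw [Set.mem_singleton_iff] at hw'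
      rw [hw']
      exact subset_closure rfl
    · intro hw'
      obtain ⟨o, ho, rfl⟩ := hw
      have h2 : h₀ (IsLocalRing.closedPoint K) ⤳ o := by
        rw [← O.ι.isOpenEmbedding.isInducing.specializes_iff, ← Scheme.Hom.comp_apply, e₀]
        exact specializes_iff_mem_closure.2 hw'
      have h3 := h2.map e.hom.continuous
      rw [← Scheme.Hom.comp_apply, hpt, ← PrimeSpectrum.le_iff_specializes] at h3
      have h4 := hq _ (e.hom o).isPrime (hker ▸ h3) ho
      have h5 : e.hom o = e.hom (h₀ (IsLocalRing.closedPoint K)) := by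
        rw [← Scheme.Hom.comp_apply, hpt]
        exact PrimeSpectrum.ext (h4.trans hker.symm)
      apply Subtype.ext
      change O.ι o = h (IsLocalRing.closedPoint K)
      rw [e.hom.homeomorph.injective h5, ← Scheme.Hom.comp_apply, e₀]
  rw [e1]
  exact isClosed_closure.preimage continuous_subtype_val

variable {S : Scheme.{u}} {F G : Sp S}

/-- A closed point of an etale chart is a finite type point. -/
theorem ftPoint_of_closed_point {U : Over S} {φ : (yon S).obj U ⟶ F} (hφ : RepWith @Etale φ)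
    (u : ↥U.left) (hu : IsClosed ({u} : Set ↥U.left)) :
    ∃ (k : Type u) (_ : Field k) (str : Spec (CommRingCat.of k) ⟶ S) (ξ : (yon S).obj (Over.mk str) ⟶ F),
      LocP @LocallyOfFiniteType ξ ∧ Points.ofPt ξ (IsLocalRing.closedPoint k) = Points.ofPt φ u := by
  let c : Over.mk (U.left.fromSpecResidueField u ≫ U.hom) ⟶ U := Over.homMk (U.left.fromSpecResidueField u) rfl
  have := isClosed_singleton_iff_isClosedImmersion.1 hu
  refine ⟨↥(U.left.residueField u), inferInstance, U.left.fromSpecResidueField u ≫ U.hom, (yon S).map c ≫ φ, ?_, ?_⟩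
  · exact locP_of_repWith (repWith_comp ((repWith_yon_map_iff _ _).2
      (inferInstanceAs (LocallyOfFiniteType (U.left.fromSpecResidueField u))))
      (repWith_mono (fun A B g (hg : Etale g) => (inferInstance : LocallyOfFiniteType g)) _ hφ))
  · rw [ofPt_comp]
    exact congrArg (Points.ofPt φ) (Scheme.fromSpecResidueField_apply _ _)

/-- A finite type point is a closed point of some etale chart. -/
theorem exists_closed_point_of_ftPoint (hF : IsAlgSpace F) {k : Type u} [Field k]
    {str : Spec (CommRingCat.of k) ⟶ S} {ξ : (yon S).obj (Over.mk str) ⟶ F}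
    (hξ : LocP @LocallyOfFiniteType ξ) :
    ∃ (U : Over S) (φ : (yon S).obj U ⟶ F) (u : ↥U.left), RepWith @Etale φ ∧
      IsClosed ({u} : Set ↥U.left) ∧ Points.ofPt φ u = Points.ofPt ξ (IsLocalRing.closedPoint k) := by
  obtain ⟨V, a, ha, ha'⟩ := hF.atlas
  let p := ha.rep.snd ξ
  let q := ha.rep.fst' ξ
  have : Etale p.left := ha.property_snd ξ
  have : Surjective p.left := ha'.2 _ _ _ (ha.rep.isPullback ξ)
  have hq : LocallyOfFiniteType q.left := hξ ((yon S).map p) a q
    ((repWith_yon_map_iff _ _).2 (inferInstanceAs (Etale p.left))) ha (by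
      rw [Functor.relativelyRepresentable.map_fst']; exact (ha.rep.w ξ).symm)
  obtain ⟨v, hv⟩ := p.left.surjective (IsLocalRing.closedPoint k)
  let h := (ha.rep.pullback ξ).left.fromSpecResidueField v ≫ q.left
  have hclosed : IsClosed ({v} : Set ↥(ha.rep.pullback ξ).left) := by
    let p' : (ha.rep.pullback ξ).left ⟶ Spec (CommRingCat.of k) := p.left
    have : Etale p' := ‹Etale p.left›
    have hd : DiscreteTopology ↥(ha.rep.pullback ξ).left := by
      have h1 := p'.isDiscrete_preimage_singleton (IsLocalRing.closedPoint k)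
      rw [show p' ⁻¹' {IsLocalRing.closedPoint k} = Set.univ from
        Set.eq_univ_of_forall fun x => Subsingleton.elim _ _] at h1
      exact isDiscrete_univ_iff.1 h1
    exact isClosed_discrete _
  have := isClosed_singleton_iff_isClosedImmersion.1 hclosed
  have : LocallyOfFiniteType h := inferInstance
  obtain ⟨W, hW, hc⟩ := exists_open_isClosed_singleton (K := ↥((ha.rep.pullback ξ).left.residueField v)) h
  let ι : Over.mk (W.ι ≫ V.hom) ⟶ V := Over.homMk W.ι rfl
  refine ⟨Over.mk (W.ι ≫ V.hom), (yon S).map ι ≫ a, ⟨_, hW⟩,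
    repWith_comp ((repWith_yon_map_iff _ _).2 (inferInstanceAs (Etale W.ι))) ha, hc, ?_⟩
  rw [ofPt_comp]
  change Points.ofPt a (h _) = _
  have hv' : (ha.rep.pullback ξ).left.fromSpecResidueField v (IsLocalRing.closedPoint _) = v :=
    Scheme.fromSpecResidueField_apply _ _
  rw [Scheme.Hom.comp_apply, hv', ← ofPt_comp, Functor.relativelyRepresentable.map_fst', ha.rep.w ξ, ofPt_comp, hv]

/-- Every nonempty locally closed set of points contains a finite type point. -/
theorem exists_closed_point_mem (hF : IsAlgSpace F) {T : Set (Points F)} (hT : IsLocallyClosed T)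
    (hne : T.Nonempty) :
    ∃ (U : Over S) (φ : (yon S).obj U ⟶ F) (u : ↥U.left), RepWith @Etale φ ∧
      IsClosed ({u} : Set ↥U.left) ∧ Points.ofPt φ u ∈ T := by
  obtain ⟨V, a, ha, ha'⟩ := hF.atlas
  obtain ⟨x, hx⟩ := hne
  obtain ⟨v, rfl⟩ := surjective_ofPt ha' x
  obtain ⟨O, Z, hO, hZ, rfl⟩ := hT
  -- an affine open around the point inside the open part
  obtain ⟨A, hA, hvA, hAO⟩ := exists_isAffineOpen_mem_and_subset
    (U := (⟨Points.ofPt a ⁻¹' O, hO.preimage (Points.continuous_ofPt a)⟩ : V.left.Opens)) (x := v) hx.1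
  let ι : Over.mk (A.ι ≫ V.hom) ⟶ V := Over.homMk A.ι rfl
  let φ := (yon S).map ι ≫ a
  have : IsAffine A.toScheme := hA
  have : CompactSpace ↥(CategoryTheory.Over.mk (A.ι ≫ V.hom)).left := inferInstanceAs (CompactSpace ↥A.toScheme)
  obtain ⟨w, hw, hwc⟩ := (hZ.preimage (Points.continuous_ofPt φ)).exists_closed_singleton
    ⟨⟨v, hvA⟩, (show Points.ofPt φ ⟨v, hvA⟩ ∈ Z by rw [ofPt_comp]; exact hx.2)⟩
  refine ⟨_, φ, w, repWith_comp ((repWith_yon_map_iff _ _).2 (inferInstanceAs (Etale A.ι))) ha, hwc, ?_, hw⟩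
  rw [ofPt_comp]
  exact hAO w.2

end Groth.Agent.AlgSpPts
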