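import Mathlib.RingTheory.Jacobson.Ring
import Mathlib.RingTheory.Localization.Integral
import Mathlib.RingTheory.Polynomial.ScaleRoots
import Mathlib.RingTheory.FiniteType

open Polynomial

namespace Groth.Agent.AlgSpPts

universe u

/-- A domain with a finitely generated overfield has a non-zero element lying in all non-zero primes. -/
theorem exists_ne_zero_mem_of_finiteType (A K : Type u) [CommRing A] [IsDomain A] [Field K] [Algebra A K]
    [Algebra.FiniteType A K] (hinj : Function.Injective (algebraMap A K)) :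
    ∃ f : A, f ≠ 0 ∧ ∀ q : Ideal A, q.IsPrime → f ∉ q → q = ⊥ := by
  classical
  let L := FractionRing A
  let : Algebra L K := (IsFractionRing.lift hinj).toAlgebra
  have : IsScalarTower A L K :=
    IsScalarTower.of_algebraMap_eq fun a => (IsFractionRing.lift_algebraMap hinj a).symm
  have : Algebra.FiniteType L K := Algebra.FiniteType.of_restrictScalars_finiteType A L K
  have : Module.Finite L K := finite_of_finite_type_of_isJacobsonRing L K
  obtain ⟨t, ht⟩ := (‹Algebra.FiniteType A K›).out
  have hm : ∀ x : K, ∃ m : nonZeroDivisors A, IsIntegral A (m • x) := fun x =>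
    IsIntegral.exists_multiple_integral_of_isLocalization (Rₘ := L) (nonZeroDivisors A) x
      (Algebra.IsIntegral.isIntegral x)
  choose m hm using hm
  let f : A := ∏ x ∈ t, (m x : A)
  have hf : f ≠ 0 := Finset.prod_ne_zero_iff.2 fun x _ => nonZeroDivisors.coe_ne_zero (m x)
  refine ⟨f, hf, fun q hq hfq => ?_⟩
  let c : K := algebraMap A K f
  have key : ∀ y : K, ∃ N, IsIntegral A (c ^ N * y) := by
    intro y
    have hy : y ∈ Algebra.adjoin A (t : Set K) := by rw [ht]; trivial
    induction hy using Algebra.adjoin_induction with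
    | mem x hx =>
      refine ⟨1, ?_⟩
      have e : c ^ 1 * x = algebraMap A K (∏ z ∈ t.erase x, (m z : A)) * (m x • x) := by
        rw [pow_one, Submonoid.smul_def, Algebra.smul_def, ← mul_assoc, ← map_mul,
          Finset.prod_erase_mul _ _ (Finset.mem_coe.1 hx)]
      rw [e]
      exact IsIntegral.mul isIntegral_algebraMap (hm x)
    | algebraMap a => exact ⟨0, by rw [pow_zero, one_mul]; exact isIntegral_algebraMap⟩
    | add x y _ _ hx hy =>
      obtain ⟨a, ha⟩ := hx
      obtain ⟨b, hb⟩ := hy
      refine ⟨a + b, ?_⟩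
      have e : c ^ (a + b) * (x + y) = c ^ b * (c ^ a * x) + c ^ a * (c ^ b * y) := by ring
      rw [e]
      exact ((isIntegral_algebraMap.pow _).mul ha).add ((isIntegral_algebraMap.pow _).mul hb)
    | mul x y _ _ hx hy =>
      obtain ⟨a, ha⟩ := hx
      obtain ⟨b, hb⟩ := hy
      refine ⟨a + b, ?_⟩
      have e : c ^ (a + b) * (x * y) = (c ^ a * x) * (c ^ b * y) := by ring
      rw [e]
      exact ha.mul hb
  by_contra hne
  obtain ⟨s, hs, hs0⟩ := Submodule.exists_mem_ne_zero_of_ne_bot hne
  have hsK : algebraMap A K s ≠ 0 := (map_ne_zero_iff _ hinj).2 hs0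
  obtain ⟨N, p, hmonic, hp⟩ := key ((algebraMap A K s)⁻¹)
  have h0 : (p.scaleRoots s).eval (f ^ N) = 0 := by
    apply hinj
    rw [map_zero, ← aeval_algebraMap_apply_eq_algebraMap_eval]
    have := scaleRoots_aeval_eq_zero (A := K) (r := s) (p := p) hp
    rwa [show algebraMap A K s * (c ^ N * (algebraMap A K s)⁻¹) = algebraMap A K (f ^ N) by
      rw [map_pow, mul_comm, mul_assoc, inv_mul_cancel₀ hsK, mul_one]] at this
  have hmem : (f ^ N) ^ p.natDegree ∈ q := by
    rw [eval_eq_sum_range, natDegree_scaleRoots, Finset.sum_range_succ, coeff_scaleRoots_natDegree,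
      hmonic.leadingCoeff, one_mul] at h0
    rw [eq_neg_of_add_eq_zero_right h0]
    refine q.neg_mem (q.sum_mem fun i hi => ?_)
    rw [coeff_scaleRoots]
    exact q.mul_mem_right _ (q.mul_mem_left _
      (q.pow_mem_of_mem hs _ (Nat.sub_pos_of_lt (Finset.mem_range.1 hi))))
  exact hfq (hq.mem_of_pow_mem _ (hq.mem_of_pow_mem _ hmem))

/-- The kernel of a finite type map to a field is closed in a basic open. -/
theorem exists_eq_ker_of_finiteType {R K : Type u} [CommRing R] [Field K] (φ : R →+* K) (hφ : φ.FiniteType) :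
    ∃ f : R, φ f ≠ 0 ∧ ∀ q : Ideal R, q.IsPrime → RingHom.ker φ ≤ q → f ∉ q → q = RingHom.ker φ := by
  have hprime := RingHom.ker_isPrime φ
  have hinj : Function.Injective (RingHom.kerLift φ) := RingHom.kerLift_injective φ
  algebraize [RingHom.kerLift φ]
  have : Algebra.FiniteType (R ⧸ RingHom.ker φ) K :=
    RingHom.FiniteType.of_comp_finiteType (f := Ideal.Quotient.mk (RingHom.ker φ)) (g := RingHom.kerLift φ) hφ
  obtain ⟨f, hf, hq⟩ := exists_ne_zero_mem_of_finiteType (R ⧸ RingHom.ker φ) K hinj
  obtain ⟨f, rfl⟩ := Ideal.Quotient.mk_surjective f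
  refine ⟨f, fun h => hf (Ideal.Quotient.eq_zero_iff_mem.2 h), fun q hqp hle hfq => ?_⟩
  have := hq (q.map (Ideal.Quotient.mk (RingHom.ker φ)))
    (Ideal.map_isPrime_of_surjective Ideal.Quotient.mk_surjective (by rwa [Ideal.mk_ker]))
    (fun h => hfq ((Ideal.mem_quotient_iff_mem_sup.1 h) |> fun h' => by rwa [sup_eq_left.2 hle] at h'))
  refine le_antisymm ?_ hle
  rw [Ideal.map_eq_bot_iff_le_ker, Ideal.mk_ker] at this
  exact this

end Groth.Agent.AlgSpPts
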