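import Groth.Agent.AlgSpPts.Descent
import Groth.Agent.MorLib.GeomFibre
import Groth.Agent.S9734

/-!
# Universal injectivity from injectivity after etale base change
-/

set_option backward.isDefEq.respectTransparency false
set_option backward.isDefEq.respectTransparency.types false

universe u

open CategoryTheory CategoryTheory.Limits AlgebraicGeometry Opposite AlgSp

namespace Groth.Agent.AlgSpPts.InjEtale

open Groth.Agent.AlgSpLib Groth.Agent.MorLib

variable {S : Scheme.{u}}

/-- If all points of the fibres are related by an etale correspondence, residue extensions are finite. -/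
theorem finite_residueFieldMap {U V R : Scheme.{u}} (h : U ⟶ V) [LocallyOfFiniteType h] (s t : R ⟶ U)
    [Etale t] (w : s ≫ h = t ≫ h) (hR : ∀ u v, h u = h v → ∃ r, s r = u ∧ t r = v) (x : U) :
    (h.residueFieldMap x).hom.Finite := by
  obtain ⟨v, hv, hfin⟩ : ∃ v, h x = h v ∧ (h.residueFieldMap v).hom.Finite := by
    have : JacobsonSpace ↥(Spec (V.residueField (h x))) := inferInstanceAs (JacobsonSpace (PrimeSpectrum _))
    have : JacobsonSpace ↥(h.fiber (h x)) :=
      have : LocallyOfFiniteType (h.fiberToSpecResidueField (h x)) :=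
        MorphismProperty.pullback_snd _ _ ‹_›
      LocallyOfFiniteType.jacobsonSpace (h.fiberToSpecResidueField (h x))
    obtain ⟨v₀, -, hv₀⟩ := nonempty_inter_closedPoints (Z := (Set.univ : Set ↥(h.fiber (h x))))
      ⟨h.asFiber x, trivial⟩ isClosed_univ.isLocallyClosed
    have hh : h (h.fiberι _ v₀) = h x := by
      have : h.fiberι (h x) v₀ ∈ Set.range (h.fiberι (h x)) := ⟨v₀, rfl⟩
      simpa [Scheme.Hom.range_fiberι] using this
    refine ⟨h.fiberι _ v₀, hh.symm, ?_⟩
    suffices key : ∀ (v : U) (y : V) (w : ↥(h.fiber y)), h v = y → h.fiberι y w = v → IsClosed {w} →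
        (h.residueFieldMap v).hom.Finite from key _ _ v₀ hh rfl hv₀
    intro v y w' hy hw hcl
    subst hy
    let l : Spec (U.residueField v) ⟶ h.fiber (h v) :=
      pullback.lift (U.fromSpecResidueField v) (Spec.map (h.residueFieldMap v)) (by simp)
    have hl : l ≫ h.fiberι _ = U.fromSpecResidueField v := pullback.lift_fst _ _ _
    have : IsPreimmersion (l ≫ h.fiberι _) := by rw [hl]; infer_instance
    have : IsPreimmersion l := IsPreimmersion.of_comp l (h.fiberι _)
    have hrange : Set.range l = {w'} := by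
      refine Set.eq_singleton_iff_nonempty_unique_mem.2 ⟨Set.range_nonempty _, ?_⟩
      rintro _ ⟨p, rfl⟩
      apply (h.fiberι _).isEmbedding.injective
      rw [← Scheme.Hom.comp_apply, hl, Scheme.fromSpecResidueField_apply, hw]
    have : IsClosedImmersion l := .of_isPreimmersion _ (hrange ▸ hcl)
    have : LocallyOfFiniteType (h.fiberToSpecResidueField (h v)) :=
      MorphismProperty.pullback_snd _ _ ‹_›
    have e : l ≫ h.fiberToSpecResidueField (h v) = Spec.map (h.residueFieldMap v) :=
      pullback.lift_snd _ _ _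
    have : LocallyOfFiniteType (Spec.map (h.residueFieldMap v)) := e ▸ inferInstance
    have := (isFinite_iff_locallyOfFiniteType_of_jacobsonSpace
      (f := Spec.map (h.residueFieldMap v))).2 inferInstance
    exact (IsFinite.SpecMap_iff _).1 this
  obtain ⟨r, rfl, rfl⟩ := hR x v hv
  have ht : (t.residueFieldMap r).hom.Finite := GF.finite_residueFieldMap t r
  have hth : ((t ≫ h).residueFieldMap r).hom.Finite := by
    rw [Scheme.residueFieldMap_comp, CommRingCat.hom_comp]
    exact ht.comp hfin
  have hsh : ((s ≫ h).residueFieldMap r).hom.Finite := by rwa [w]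
  rw [Scheme.residueFieldMap_comp, CommRingCat.hom_comp] at hsh
  algebraize [(h.residueFieldMap (s r)).hom, (s.residueFieldMap r).hom,
    (s.residueFieldMap r).hom.comp (h.residueFieldMap (s r)).hom]
  have : Module.Finite (V.residueField (h (s r))) (R.residueField r) := hsh
  exact FiniteDimensional.left (V.residueField (h (s r))) (U.residueField (s r)) (R.residueField r)

/-- An etale neighbourhood through which a field valued point factors, such that two maps out of
`Spec L` equalized by it are equalized by the point. -/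
theorem exists_etale_separating {U V : Scheme.{u}} (h : U ⟶ V)
    (hfin : ∀ x, (h.residueFieldMap x).hom.Finite) {L : Type u} [Field L]
    (b : Spec (CommRingCat.of L) ⟶ U) :
    ∃ (W : Scheme.{u}) (e : W ⟶ V) (c : Spec (CommRingCat.of L) ⟶ W), Etale e ∧ c ≫ e = b ≫ h ∧
      ∀ (M : Type u) [Field M] (σ₁ σ₂ : Spec (CommRingCat.of M) ⟶ Spec (CommRingCat.of L)),
        σ₁ ≫ c = σ₂ ≫ c → σ₁ ≫ b = σ₂ ≫ b := by
  obtain ⟨⟨x, β⟩, rfl⟩ := (Scheme.SpecToEquivOfField L U).symm.surjective b
  let k := V.residueField (h x)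
  let K := U.residueField x
  algebraize [(h.residueFieldMap x).hom]
  have : Module.Finite k K := hfin x
  let E := separableClosure k K
  obtain ⟨W, e, v, hv, he, hφ⟩ := S9734.result V (h x) ↥E
  letI : Algebra k (W.residueField v) :=
    ((V.residueFieldCongr hv).inv ≫ e.residueFieldMap v).hom.toAlgebra
  obtain ⟨φ⟩ := hφ
  let ι : W.residueField v ⟶ K :=
    CommRingCat.ofHom ((algebraMap E K).comp φ.symm.toRingEquiv.toRingHom)
  have hι : (V.residueFieldCongr hv).inv ≫ e.residueFieldMap v ≫ ι = h.residueFieldMap x := by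
    ext y
    change algebraMap E K (φ.symm (algebraMap k (W.residueField v) y)) = algebraMap k K y
    rw [AlgEquiv.commutes]
    rfl
  refine ⟨W, e, (Scheme.SpecToEquivOfField L W).symm ⟨v, ι ≫ β⟩, he, ?_, fun M _ σ₁ σ₂ hσ => ?_⟩
  · change (Spec.map (ι ≫ β) ≫ W.fromSpecResidueField v) ≫ e =
      (Spec.map β ≫ U.fromSpecResidueField x) ≫ h
    rw [Category.assoc, Category.assoc, ← Scheme.Hom.SpecMap_residueFieldMap_fromSpecResidueField,
      ← Scheme.Hom.SpecMap_residueFieldMap_fromSpecResidueField, ← hι]
    simp only [Spec.map_comp, Category.assoc, Scheme.residueFieldCongr_inv, Scheme.residueFieldCongr_fromSpecResidueField]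
  · change σ₁ ≫ Spec.map β ≫ U.fromSpecResidueField x = σ₂ ≫ Spec.map β ≫ U.fromSpecResidueField x
    change σ₁ ≫ Spec.map (ι ≫ β) ≫ W.fromSpecResidueField v =
      σ₂ ≫ Spec.map (ι ≫ β) ≫ W.fromSpecResidueField v at hσ
    obtain ⟨τ₁, rfl⟩ := Spec.map_surjective σ₁
    obtain ⟨τ₂, rfl⟩ := Spec.map_surjective σ₂
    simp only [← Spec.map_comp_assoc] at hσ ⊢
    have h' := Spec.map_injective ((cancel_mono (W.fromSpecResidueField v)).1 hσ)
    suffices β ≫ τ₁ = β ≫ τ₂ by rw [this]
    ext y
    let _ : Algebra E M := ((β ≫ τ₁).hom.comp (algebraMap E K)).toAlgebra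
    let f₁ : K →ₐ[E] M := { (β ≫ τ₁).hom with commutes' := fun _ => rfl }
    let f₂ : K →ₐ[E] M :=
      { (β ≫ τ₂).hom with
        commutes' := fun z => by
          obtain ⟨w, rfl⟩ := φ.symm.surjective z
          exact (RingHom.congr_fun (congrArg CommRingCat.Hom.hom h') w).symm }
    exact DFunLike.congr_fun (Subsingleton.elim f₁ f₂) y

variable {P : Sp S} {U Z : Over S} (p : (yon S).obj U ⟶ P) (q : P ⟶ (yon S).obj Z) (h : U ⟶ Z)

theorem injective_map_of_baseChange
    (hinj : Function.Injective (Points.map (pullback.snd q ((yon S).map (𝟙 Z))))) :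
    Function.Injective (Points.map q) := by
  intro a b hab
  have sq' := IsPullback.of_hasPullback q ((yon S).map (𝟙 Z))
  obtain ⟨a', ha₁, ha₂⟩ := exists_point_of_isPullback sq' (x := a) (y := Points.map q a)
    (by rw [CategoryTheory.Functor.map_id, Points.map_id])
  obtain ⟨b', hb₁, hb₂⟩ := exists_point_of_isPullback sq' (x := b) (y := Points.map q a)
    (by rw [CategoryTheory.Functor.map_id, Points.map_id, hab])
  rw [← ha₁, ← hb₁, hinj (ha₂.trans hb₂.symm)]

theorem finite_residueFieldMap_chart (hp : RepWith @Etale p) (hq : p ≫ q = (yon S).map h)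
    (hh : LocallyOfFiniteType h.left) (hinj : Function.Injective (Points.map q)) (x : U.left) :
    (h.left.residueFieldMap x).hom.Finite := by
  have sq := hp.rep.isPullback' p
  have : Etale (hp.rep.snd p).left := hp.property_snd p
  refine finite_residueFieldMap h.left (hp.rep.fst' p).left (hp.rep.snd p).left ?_ ?_ x
  · have e : (yon S).map (hp.rep.fst' p ≫ h) = (yon S).map (hp.rep.snd p ≫ h) := by
      rw [Functor.map_comp, Functor.map_comp, ← hq, ← Category.assoc, ← Category.assoc, sq.w]
    simpa using congrArg (fun f => f.left) ((yon S).map_injective e)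
  · intro u v huv
    refine exists_ofPt_of_eq sq ?_
    apply hinj
    rw [Points.map_ofPt, Points.map_ofPt, hq, ← Category.comp_id ((yon S).map h), ofPt_comp, ofPt_comp]
    exact congrArg _ huv

/-- Field valued points defining the same point agree over a common field extension. -/
theorem exists_extension_of_ofPt_eq {F : Sp S} {L : Type u} [Field L]
    (str : Spec (CommRingCat.of L) ⟶ S) (A B : (yon S).obj (Over.mk str) ⟶ F)
    (h : Points.ofPt A (IsLocalRing.closedPoint L) = Points.ofPt B (IsLocalRing.closedPoint L)) :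
    ∃ (M : Type u) (_ : Field M) (w : Spec (CommRingCat.of M) ⟶ S) (σ₁ σ₂ : Over.mk w ⟶ Over.mk str),
      (yon S).map σ₁ ≫ A = (yon S).map σ₂ ≫ B := by
  let pA : FieldPt F := ⟨L, str, (J S).uliftYonedaEquiv A⟩
  let pB : FieldPt F := ⟨L, str, (J S).uliftYonedaEquiv B⟩
  have hA : pA.toHom = A := (J S).uliftYonedaEquiv.symm_apply_apply _
  have hB : pB.toHom = B := (J S).uliftYonedaEquiv.symm_apply_apply _
  have heq : Points.mk pA = Points.mk pB := by rw [mk_eq_ofPt, mk_eq_ofPt, hA, hB]; exact h
  obtain ⟨M, _, w, σ₁, σ₂, hσ⟩ := Points.mk_eq_mk_iff.1 heq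
  refine ⟨M, inferInstance, w, σ₁, σ₂, ?_⟩
  apply (J S).uliftYonedaEquiv.injective
  rw [← GrothendieckTopology.uliftYonedaEquiv_naturality,
    ← GrothendieckTopology.uliftYonedaEquiv_naturality]
  exact hσ

/-- Two field valued points of the chart over the same point of the base agree in `P` over a field
extension. -/
theorem exists_extension_eq (hq : p ≫ q = (yon S).map h)
    (hfin : ∀ x, (h.left.residueFieldMap x).hom.Finite)
    (hinj : ∀ (V : Over S) (e : V ⟶ Z), Etale e.left →
      Function.Injective (Points.map (pullback.snd q ((yon S).map e))))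
    {L : Type u} [Field L] (str : Spec (CommRingCat.of L) ⟶ S) (α β : Over.mk str ⟶ U)
    (hαβ : α ≫ h = β ≫ h) :
    ∃ (M : Type u) (_ : Field M) (w : Spec (CommRingCat.of M) ⟶ S) (σ : Over.mk w ⟶ Over.mk str),
      (yon S).map (σ ≫ α) ≫ p = (yon S).map (σ ≫ β) ≫ p := by
  obtain ⟨W, e, cW, he, hce, hsep⟩ := exists_etale_separating h.left hfin (L := L) β.left
  let V : Over S := Over.mk (e ≫ Z.hom)
  let eo : V ⟶ Z := Over.homMk e
  let co : Over.mk str ⟶ V := Over.homMk cW (by
    change cW ≫ e ≫ Z.hom = _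
    rw [← Category.assoc, hce, Category.assoc, Over.w h, Over.w β])
  have hco : co ≫ eo = β ≫ h := Over.OverMorphism.ext hce
  have cA : ((yon S).map α ≫ p) ≫ q = (yon S).map co ≫ (yon S).map eo := by
    rw [Category.assoc, hq, ← Functor.map_comp, ← Functor.map_comp, hco, hαβ]
  have cB : ((yon S).map β ≫ p) ≫ q = (yon S).map co ≫ (yon S).map eo := by
    rw [Category.assoc, hq, ← Functor.map_comp, ← Functor.map_comp, hco]
  obtain ⟨M, _, w, σ₁, σ₂, hσ'⟩ := exists_extension_of_ofPt_eq str (pullback.lift _ _ cA)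
    (pullback.lift _ _ cB) (hinj V eo he (by
      rw [Points.map_ofPt, Points.map_ofPt, pullback.lift_snd, pullback.lift_snd]))
  have h₁ : (yon S).map σ₁ ≫ (yon S).map α ≫ p = (yon S).map σ₂ ≫ (yon S).map β ≫ p := by
    simpa using hσ' =≫ pullback.fst _ _
  have h₂ : σ₁ ≫ co = σ₂ ≫ co := by
    apply (yon S).map_injective
    simpa using hσ' =≫ pullback.snd _ _
  have h₃ : σ₁ ≫ β = σ₂ ≫ β :=
    Over.OverMorphism.ext (hsep M σ₁.left σ₂.left (congrArg (fun f => f.left) h₂))
  refine ⟨M, inferInstance, w, σ₁, ?_⟩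
  rw [h₃, Functor.map_comp, Functor.map_comp, Category.assoc, Category.assoc, h₁]

theorem mem_range_diagonal {T T' : Over S} (σ : T' ⟶ T) (t' : T'.left) (l : (yon S).obj T ⟶ pullback q q)
    (a : (yon S).obj T' ⟶ P) (h₁ : (yon S).map σ ≫ l ≫ pullback.fst q q = a)
    (h₂ : (yon S).map σ ≫ l ≫ pullback.snd q q = a) :
    Points.ofPt l (σ.left t') ∈ Set.range (Points.map (pullback.diagonal q)) := by
  refine ⟨Points.ofPt a t', ?_⟩
  have : (yon S).map σ ≫ l = a ≫ pullback.diagonal q := by
    apply pullback.hom_ext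
    · simp only [Category.assoc, pullback.diagonal_fst, Category.comp_id, h₁]
    · simp only [Category.assoc, pullback.diagonal_snd, Category.comp_id, h₂]
  rw [Points.map_ofPt, ← this, ofPt_comp]

/-- The chart product surjects onto the fibre product. -/
theorem exists_lift_pair (hps : RepWith @Surjective p) (z : Points (pullback q q)) :
    ∃ (pt : FieldPt (pullback q q)) (α β : pt.pt ⟶ U), Points.mk pt = z ∧
      pt.toHom ≫ pullback.fst q q = (yon S).map α ≫ p ∧
      pt.toHom ≫ pullback.snd q q = (yon S).map β ≫ p := by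
  have sq₁ := IsPullback.of_hasPullback p (pullback.fst q q)
  obtain ⟨u₁, hu₁⟩ := surjective_map_of_repWith hps (Points.map (pullback.fst q q) z)
  obtain ⟨z₁, -, hz₁⟩ := exists_point_of_isPullback sq₁ hu₁
  have sq₂ := IsPullback.of_hasPullback p (pullback.snd p (pullback.fst q q) ≫ pullback.snd q q)
  obtain ⟨u₂, hu₂⟩ := surjective_map_of_repWith hps
    (Points.map (pullback.snd p (pullback.fst q q) ≫ pullback.snd q q) z₁)
  obtain ⟨z₂, -, hz₂⟩ := exists_point_of_isPullback sq₂ hu₂
  rw [← hz₁, ← hz₂]
  clear hz₁ hz₂ hu₁ hu₂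
  induction z₂ using Points.ind with
  | h pt =>
  refine ⟨(pt.map (pullback.snd _ _)).map (pullback.snd _ _),
    (yon S).preimage (pt.toHom ≫ pullback.snd _ _ ≫ pullback.fst p (pullback.fst q q)),
    (yon S).preimage (pt.toHom ≫ pullback.fst p (pullback.snd p (pullback.fst q q) ≫ pullback.snd q q)),
    rfl, ?_, ?_⟩
  · rw [Functor.map_preimage, FieldPt.toHom_map, FieldPt.toHom_map, Category.assoc, Category.assoc,
      Category.assoc, Category.assoc, sq₁.w]
  · rw [Functor.map_preimage, FieldPt.toHom_map, FieldPt.toHom_map, Category.assoc, Category.assoc,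
      Category.assoc, sq₂.w]

/-- A morphism to a scheme, locally of finite type, that stays injective after etale base changes by
schemes, has surjective diagonal. -/
theorem isSurjectiveMor_diagonal (hp : RepWith @Etale p) (hps : RepWith @Surjective p)
    (hq : p ≫ q = (yon S).map h) (hh : LocallyOfFiniteType h.left)
    (hinj : ∀ (V : Over S) (e : V ⟶ Z), Etale e.left →
      Function.Injective (Points.map (pullback.snd q ((yon S).map e)))) :
    IsSurjectiveMor (pullback.diagonal q) := by
  have hfin := finite_residueFieldMap_chart p q h hp hq hh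
    (injective_map_of_baseChange q (hinj Z (𝟙 Z) (inferInstanceAs (Etale (𝟙 Z.left)))))
  intro z
  obtain ⟨pt, α, β, rfl, hl₁, hl₂⟩ := exists_lift_pair p q hps z
  have hαβ : α ≫ h = β ≫ h := by
    apply (yon S).map_injective
    rw [Functor.map_comp, Functor.map_comp, ← hq, ← Category.assoc, ← Category.assoc, ← hl₁, ← hl₂,
      Category.assoc, Category.assoc]
    exact congrArg (pt.toHom ≫ ·) pullback.condition
  obtain ⟨M, _, w, σ, hσ⟩ := exists_extension_eq p q h hq hfin hinj pt.str α β hαβ
  have := mem_range_diagonal q σ (IsLocalRing.closedPoint M) pt.toHom ((yon S).map (σ ≫ β) ≫ p)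
    (by rw [hl₁, ← hσ, Functor.map_comp, Category.assoc])
    (by rw [hl₂, Functor.map_comp, Category.assoc])
  rwa [show σ.left (IsLocalRing.closedPoint M) = IsLocalRing.closedPoint pt.K from
    Subsingleton.elim (α := PrimeSpectrum pt.K) _ _, ← mk_eq_ofPt] at this

end Groth.Agent.AlgSpPts.InjEtale
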