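import Groth.Agent.AlgSpPts.Univ
import Groth.Agent.AlgSpPts.Misc
import Groth.Agent.AlgSpPts.Descent
import Groth.Prelude.Def_AlgSpDec
import Mathlib.AlgebraicGeometry.Morphisms.UniversallyClosed

set_option backward.isDefEq.respectTransparency false
set_option backward.isDefEq.respectTransparency.types false

open CategoryTheory Limits Opposite AlgebraicGeometry MorphismProperty AlgSp Groth.Agent.AlgSpLib Topology

namespace Groth.Agent.AlgSpPts

universe u

variable {S : Scheme.{u}}

theorem isUnivClosedMor_of_isPullback {F G H P : Sp S} {fst : P ⟶ F} {snd : P ⟶ H} {f : F ⟶ G} {g : H ⟶ G}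
    (sq : IsPullback fst snd f g) (hf : IsUnivClosedMor f) : IsUnivClosedMor snd :=
  fun Z Z' hZ k fst' snd' sq' => hf hZ (k ≫ g) (fst' ≫ fst) snd' (sq'.paste_horiz sq)

open PrimeSpectrum MvPolynomial in
/-- An algebraic space universally closed over a field is quasi-compact. -/
theorem compactSpace_of_univClosed_field {F : Sp S} (hF : IsAlgSpace F) {K : Type u} [Field K]
    {str : Spec (CommRingCat.of K) ⟶ S} (f : F ⟶ (yon S).obj (Over.mk str)) (hf : IsUnivClosedMor f) :
    CompactSpace (Points F) := by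
  classical
  obtain ⟨V, a, ha, ha'⟩ := hF.atlas
  let 𝒰 := V.left.affineCover
  let U (i : 𝒰.I₀) : Set (Points F) := Points.ofPt a '' Set.range (𝒰.f i)
  have hUo : ∀ i, IsOpen (U i) := fun i => isOpenMap_ofPt ha _ (𝒰.f i).opensRange.isOpen
  have hUc : ∀ i, IsCompact (U i) := fun i =>
    (isCompact_range (𝒰.f i).continuous).image (Points.continuous_ofPt a)
  let R : CommRingCat.{u} := CommRingCat.of (MvPolynomial 𝒰.I₀ K)
  let T : Over S := Over.mk (Spec.map (CommRingCat.ofHom (R := K) (S := MvPolynomial 𝒰.I₀ K) MvPolynomial.C) ≫ str)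
  let q : T ⟶ Over.mk str := Over.homMk (Spec.map (CommRingCat.ofHom (R := K) (S := MvPolynomial 𝒰.I₀ K) MvPolynomial.C)) rfl
  let Ti (i : 𝒰.I₀) : TopologicalSpace.Opens (PrimeSpectrum (MvPolynomial 𝒰.I₀ K)) := basicOpen (MvPolynomial.X i)
  let fT : Points (pullback f ((yon S).map q)) → PrimeSpectrum (MvPolynomial 𝒰.I₀ K) :=
    fun z => (Points.schemeHomeo T).symm (Points.map (pullback.snd f ((yon S).map q)) z)
  have hclosed : IsClosedMap fT :=
    (Points.schemeHomeo T).symm.isClosedMap.comp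
      (hf (IsAlgSpace.yon_obj T) _ _ _ (IsPullback.of_hasPullback f ((yon S).map q)))
  have hcont : Continuous fT := (Points.schemeHomeo T).symm.continuous.comp (Points.continuous_map _)
  let p : Points (pullback f ((yon S).map q)) → Points F := Points.map (pullback.fst f ((yon S).map q))
  have hp : Continuous p := Points.continuous_map _
  let Z : Set (Points (pullback f ((yon S).map q))) := (⋃ i, fT ⁻¹' (Ti i) ∩ p ⁻¹' (U i))ᶜ
  have hZ : IsClosed Z :=
    (isOpen_iUnion fun i => ((Ti i).2.preimage hcont).inter ((hUo i).preimage hp)).isClosed_compl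
  let Zc : TopologicalSpace.Opens (PrimeSpectrum (MvPolynomial 𝒰.I₀ K)) := ⟨(fT '' Z)ᶜ, (hclosed _ hZ).isOpen_compl⟩
  let ψ : MvPolynomial 𝒰.I₀ K →ₐ[K] K := MvPolynomial.aeval (fun _ ↦ 1)
  let t : PrimeSpectrum (MvPolynomial 𝒰.I₀ K) := comap ψ.toRingHom default
  have ht (i : 𝒰.I₀) : t ∈ Ti i := by
    change ψ.toRingHom (MvPolynomial.X i) ∉ (default : PrimeSpectrum K).asIdeal
    rw [show ψ.toRingHom (MvPolynomial.X i) = 1 by simp [ψ]]
    exact (Ideal.ne_top_iff_one _).1 (default : PrimeSpectrum K).isPrime.ne_top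
  have hcov : ∀ x, ∃ i, x ∈ U i := fun x => by
    obtain ⟨v, rfl⟩ := surjective_ofPt ha' x
    exact ⟨𝒰.idx v, v, 𝒰.covers v, rfl⟩
  have htZc : t ∈ Zc := by
    rintro ⟨z, hz, hzt⟩
    obtain ⟨i, hi⟩ := hcov (p z)
    exact hz (Set.mem_iUnion.2 ⟨i, show fT z ∈ Ti i by rw [hzt]; exact ht i, hi⟩)
  obtain ⟨U', ⟨g, rfl⟩, htU', hU'le⟩ :=
    TopologicalSpace.Opens.isBasis_iff_nbhd.mp isBasis_basic_opens htZc
  let σ : Finset 𝒰.I₀ := MvPolynomial.vars g
  let φ : MvPolynomial 𝒰.I₀ K →+* MvPolynomial 𝒰.I₀ K :=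
    (MvPolynomial.aeval fun i : 𝒰.I₀ ↦ if i ∈ σ then MvPolynomial.X i else 0).toRingHom
  let t' : PrimeSpectrum (MvPolynomial 𝒰.I₀ K) := comap φ t
  have ht'g : t' ∈ basicOpen g :=
    show φ g ∉ t.asIdeal from (show φ g = g from aeval_ite_mem_eq_self g subset_rfl).symm ▸ htU'
  have h : t' ∉ fT '' Z := hU'le ht'g
  suffices (⋃ i ∈ σ, U i) = Set.univ from ⟨this ▸ Finset.isCompact_biUnion _ fun i _ ↦ hUc i⟩
  rw [Set.iUnion₂_eq_univ_iff]
  contrapose! h
  obtain ⟨x, hx⟩ := h
  have : Subsingleton (Points ((yon S).obj (Over.mk str))) :=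
    (Points.schemeHomeo (Over.mk str)).toEquiv.subsingleton_congr.1
      (inferInstanceAs (Subsingleton ↥(Spec (CommRingCat.of K))))
  obtain ⟨z, hz₁, hz₂⟩ := exists_point_of_isPullback (IsPullback.of_hasPullback f ((yon S).map q))
    (x := x) (y := Points.schemeHomeo T t') (Subsingleton.elim _ _)
  have hzr : fT z = t' := (congrArg _ hz₂).trans ((Points.schemeHomeo T).symm_apply_apply t')
  refine ⟨z, fun hmem => ?_, hzr⟩
  obtain ⟨i, hi₁, hi₂⟩ := Set.mem_iUnion.1 hmem
  rw [Set.mem_preimage, hzr] at hi₁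
  have hi₁' : φ (MvPolynomial.X i) ∉ t.asIdeal := hi₁
  have hi₂' : x ∈ U i := hz₁ ▸ hi₂
  rw [show φ (.X i) = 0 by simpa [φ] using fun h' => (hx i h' hi₂').elim] at hi₁'
  exact hi₁' t.asIdeal.zero_mem

/-- A universally closed morphism is quasi-compact. -/
theorem isQuasiCompactMor_of_univClosed {F G : Sp S} (hF : IsAlgSpace F) (hG : IsAlgSpace G) {f : F ⟶ G}
    (hf : IsUnivClosedMor f) : IsQuasiCompactMor f := by
  intro Z Z' hZ hqc g fst snd sq
  have hZ' : IsAlgSpace Z' := isAlgSpace_of_isPullback sq hF hZ hG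
  have hsnd := isUnivClosedMor_of_isPullback sq hf
  have hfib : ∀ z : Points Z, IsCompact (Points.map snd ⁻¹' {z}) := by
    intro z
    obtain ⟨p, rfl⟩ := Points.mk_surjective z
    have sqp := IsPullback.of_hasPullback snd p.toHom
    have hc := compactSpace_of_univClosed_field (isAlgSpace_of_isPullback sqp hZ' (IsAlgSpace.yon_obj p.pt) hZ)
      _ (isUnivClosedMor_of_isPullback sqp hsnd)
    convert isCompact_range (Points.continuous_map (pullback.fst snd p.toHom))
    ext w
    constructor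
    · intro hw
      obtain ⟨c, hc, -⟩ := exists_point_of_isPullback sqp (x := w)
        (y := Points.ofScheme p.pt (IsLocalRing.closedPoint p.K))
        (by rw [Points.map_ofPt, Category.id_comp, Points.ofPt_toHom]; exact hw)
      exact ⟨c, hc⟩
    · rintro ⟨c, rfl⟩
      change Points.map snd (Points.map (pullback.fst snd p.toHom) c) = Points.mk p
      rw [← Points.map_comp, pullback.condition, Points.map_comp]
      obtain ⟨t, ht⟩ := (Points.schemeHomeo p.pt).surjective (Points.map (pullback.snd snd p.toHom) c)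
      rw [← ht]
      change Points.map p.toHom (Points.ofPt (𝟙 _) t) = Points.mk p
      rw [Points.map_ofPt, Category.id_comp, Points.ofPt_toHom]
  have hprop : IsProperMap (Points.map snd) :=
    isProperMap_iff_isClosedMap_and_compact_fibers.2 ⟨Points.continuous_map _,
      hsnd hZ (𝟙 Z) (𝟙 Z') snd (IsPullback.of_horiz_isIso ⟨by simp⟩), hfib⟩
  have := (isQuasiCompactSp_iff hZ).1 hqc
  refine (isQuasiCompactSp_iff hZ').2 ⟨?_⟩
  simpa using hprop.isCompact_preimage isCompact_univ

end Groth.Agent.AlgSpPts
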