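import Groth.Agent.AlgSpPts.Sep
import Groth.Agent.AlgSpPts.UnivClosed
import Groth.Agent.S10192
import Groth.Agent.S10193
import Groth.Agent.S9925
import Groth.Agent.S9926
import Groth.Agent.S10279

/-!
# Closed subspaces proper over a base
-/

set_option backward.isDefEq.respectTransparency false
set_option backward.isDefEq.respectTransparency.types false

universe u

open CategoryTheory CategoryTheory.Limits AlgebraicGeometry Opposite AlgSp

namespace Groth.Agent.AlgSpPts.ProperSub

open Groth.Agent.AlgSpLib

variable {S : Scheme.{u}}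

theorem isClosed_range_of_univClosed {F G : Sp S} (hG : IsAlgSpace G) {f : F ⟶ G} (h : IsUnivClosedMor f) :
    IsClosed (Set.range (Points.map f)) :=
  (h hG (𝟙 _) (𝟙 _) f (IsPullback.of_horiz_isIso ⟨by simp⟩)).isClosed_range

theorem mono_closedImmersion {F G : Sp S} {i : F ⟶ G} (hi : RepWith @IsClosedImmersion i) : Mono i :=
  mono_of_repWith (repWith_mono (fun _ _ g (_ : IsClosedImmersion g) =>
    (show (MorphismProperty.monomorphisms Scheme) g from inferInstanceAs (Mono g))) _ hi)

/-- Universal closedness cancels along monomorphisms. -/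
theorem univClosed_of_comp_mono {F G H : Sp S} (h : F ⟶ G) (i : G ⟶ H) [Mono i]
    (hc : IsUnivClosedMor (h ≫ i)) : IsUnivClosedMor h :=
  isUnivClosedMor_of_isPullback (g := i)
    ⟨⟨by simp⟩, ⟨PullbackCone.IsLimit.mk _ (fun s => s.fst)
      (fun s => Category.comp_id _)
      (fun s => (cancel_mono i).1 (by rw [Category.assoc]; exact s.condition))
      (fun s m h₁ _ => by simpa using h₁)⟩⟩ hc

/-- A closed subspace of a space over `B` which receives a surjection from a space proper over `B`, the
composite being universally closed into the ambient space, is proper over `B`. -/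
theorem isProperMor_of_surjection {X B Z R : Space S} (i : Z ⟶ X) (f : X ⟶ B) (r : R ⟶ Z)
    (hi : RepWith @IsClosedImmersion i.hom) (hf : LocP @LocallyOfFiniteType f.hom)
    (hs : IsSurjectiveMor r.hom) (hc : IsUnivClosedMor (r ≫ i).hom)
    (hR : IsProperMor (r ≫ i ≫ f).hom) : IsProperMor (i ≫ f).hom := by
  have : Mono i.hom := mono_closedImmersion hi
  have hrc : IsUnivClosedMor r.hom := univClosed_of_comp_mono r.hom i.hom hc
  have huc : IsUnivClosedMor (i ≫ f).hom := S10279.result r _ (i ≫ f) rfl hR.2.2 hs
  refine ⟨(S9926.result r _ (i ≫ f) rfl hs hrc).2 hR.1, ⟨?_, S9925.result _ huc⟩, huc⟩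
  exact locP_comp Z.property X.property B.property (isProperMor_of_closedImmersion hi).2.1.1 hf

/-- A closed subspace with the same points as one that is proper over the base is proper. -/
theorem isProperMor_of_range_eq {X B Z Z' : Space S} (f : X ⟶ B) (hf : LocP @LocallyOfFiniteType f.hom)
    (i : Z ⟶ X) (i' : Z' ⟶ X) (hi : RepWith @IsClosedImmersion i.hom) (hi' : RepWith @IsClosedImmersion i'.hom)
    (heq : Set.range (Points.map i.hom) = Set.range (Points.map i'.hom))
    (hZ : IsProperMor (i ≫ f).hom) : IsProperMor (i' ≫ f).hom := by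
  obtain ⟨R, j, hj, hjr, hR⟩ := S10192.result X _
    (isClosed_range_of_univClosed X.property (isProperMor_of_closedImmersion hi).2.2)
  obtain ⟨k, hk⟩ := (S10193.result i hi hR j).2 hjr.le
  obtain ⟨k', hk'⟩ := (S10193.result i' hi' hR j).2 (hjr.trans heq).le
  have := mono_closedImmersion hi
  have := mono_closedImmersion hi'
  have hjc : IsUnivClosedMor j.hom := (isProperMor_of_closedImmersion hj).2.2
  have hkp : IsProperMor k.hom := by
    refine isProperMor_of_isPullback (g := i.hom) (fst := 𝟙 _) (f := j.hom) ?_ R.property X.property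
      Z.property (isProperMor_of_closedImmersion hj)
    have hk₀ : k.hom ≫ i.hom = j.hom := congrArg (·.hom) hk
    exact ⟨⟨by simp [hk₀]⟩, ⟨PullbackCone.IsLimit.mk _ (fun s => s.fst)
      (fun s => Category.comp_id _)
      (fun s => (cancel_mono i.hom).1 (by rw [Category.assoc, hk₀]; exact s.condition))
      (fun s m h₁ _ => by simpa using h₁)⟩⟩
  refine isProperMor_of_surjection i' f k' hi' hf ?_ (by rw [hk']; exact hjc) ?_
  · intro z
    obtain ⟨y, hy⟩ : Points.map i'.hom z ∈ Set.range (Points.map j.hom) := by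
      rw [hjr, heq]; exact ⟨z, rfl⟩
    refine ⟨y, injective_map (repWith_mono (fun _ _ g (_ : IsClosedImmersion g) => g.isClosedEmbedding.injective) _ hi') ?_⟩
    rw [← Points.map_comp, show k'.hom ≫ i'.hom = j.hom from congrArg (·.hom) hk', hy]
  · rw [← Category.assoc, hk', ← hk, Category.assoc]
    exact isProperMor_comp R.property Z.property B.property hkp hZ

/-- The image of a closed subspace proper over the base underlies one. -/
theorem exists_image {X Y B Z : Space S} (a : X ⟶ B) (b : Y ⟶ B) (f : X ⟶ Y) (hcomm : f ≫ b = a)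
    (hb : LocP @LocallyOfFiniteType b.hom) (i : Z ⟶ X) (hZ : IsProperMor (i ≫ a).hom)
    (hc : IsUnivClosedMor (i ≫ f).hom) :
    IsClosed (Points.map f.hom '' Set.range (Points.map i.hom)) ∧
      ∃ (Z' : Space S) (i' : Z' ⟶ Y), RepWith @IsClosedImmersion i'.hom ∧
        Set.range (Points.map i'.hom) = Points.map f.hom '' Set.range (Points.map i.hom) ∧
        IsProperMor (i' ≫ b).hom := by
  have e : Points.map f.hom '' Set.range (Points.map i.hom) = Set.range (Points.map (i ≫ f).hom) := by
    rw [← Set.range_comp]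
    congr 1
    funext z
    exact (Points.map_comp _ _ _).symm
  have hcl := isClosed_range_of_univClosed Y.property hc
  refine ⟨e ▸ hcl, ?_⟩
  obtain ⟨R, r, hr, hrr, hR⟩ := S10192.result Z Set.univ isClosed_univ
  obtain ⟨Z', i', hi', hir, -⟩ := S10192.result Y _ hcl
  obtain ⟨h, hh⟩ := (S10193.result i' hi' hR (r ≫ i ≫ f)).2 (by
    rw [hir]; rintro _ ⟨z, rfl⟩; exact ⟨_, (Points.map_comp r.hom _ z).symm⟩)
  refine ⟨Z', i', hi', hir.trans e.symm, isProperMor_of_surjection i' b h hi' hb ?_ ?_ ?_⟩
  · intro z'
    obtain ⟨z, hz⟩ : Points.map i'.hom z' ∈ Set.range (Points.map (i ≫ f).hom) := hir ▸ ⟨z', rfl⟩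
    obtain ⟨z₀, rfl⟩ : z ∈ Set.range (Points.map r.hom) := hrr ▸ trivial
    refine ⟨z₀, injective_map (repWith_mono (fun _ _ g (_ : IsClosedImmersion g) => g.isClosedEmbedding.injective) _ hi') ?_⟩
    rw [← Points.map_comp, show h.hom ≫ i'.hom = r.hom ≫ (i ≫ f).hom from congrArg (·.hom) hh,
      Points.map_comp, hz]
  · rw [hh]
    exact isUnivClosedMor_comp Z.property Y.property (isProperMor_of_closedImmersion hr).2.2 hc
  · rw [← Category.assoc, hh, Category.assoc, Category.assoc, hcomm]
    exact isProperMor_comp R.property Z.property B.property (isProperMor_of_closedImmersion hr) hZ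

end Groth.Agent.AlgSpPts.ProperSub
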