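import Groth.Prelude.Def_AlgSpRep
import Groth.Agent.AlgSpLib.Rep
import Mathlib.CategoryTheory.Limits.Types.Pullbacks
import Mathlib.CategoryTheory.Limits.FunctorCategory.Basic

/-!
# Maps of presheaves representable by schemes or by algebraic spaces
-/

set_option backward.isDefEq.respectTransparency false
set_option backward.isDefEq.respectTransparency.types false

universe u

open CategoryTheory CategoryTheory.Limits AlgebraicGeometry Opposite AlgSp

namespace Groth.Agent.AlgSpPts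

open Groth.Agent.AlgSpLib

variable {S : Scheme.{u}} {F G H : PSp S}

/-- A presheaf all of whose fibres over representables are sheaves, over a sheaf, is a sheaf. -/
theorem isSheaf_of_fibres (a : F ⟶ G) (hG : Presheaf.IsSheaf (J S) G)
    (h : ∀ ⦃U : Over S⦄ (ξ : (pyon S).obj U ⟶ G) ⦃F' : PSp S⦄ (fst : F' ⟶ F)
      (snd : F' ⟶ (pyon S).obj U), IsPullback fst snd a ξ → Presheaf.IsSheaf (J S) F') :
    Presheaf.IsSheaf (J S) F := by
  rw [isSheaf_iff_isSheaf_of_type] at hG ⊢
  intro T R hR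
  have key : ∀ y : G.obj (op T), ∃ (P : PSp S) (fst : P ⟶ F) (snd : P ⟶ (pyon S).obj T),
      IsPullback fst snd a (uliftYonedaEquiv.{u + 1}.symm y) ∧ Presieve.IsSheaf (J S) P := fun y =>
    ⟨_, _, _, IsPullback.of_hasPullback _ _,
      (isSheaf_iff_isSheaf_of_type _ _).1 (h _ _ _ (IsPullback.of_hasPullback _ _))⟩
  have hy : ∀ (y : G.obj (op T)) {T' : Over S} (φ : T' ⟶ T),
      (uliftYonedaEquiv.{u + 1}.symm y).app (op T') ⟨φ⟩ = G.map φ.op y := fun y T' φ => rfl
  have hext : ∀ {P : PSp S} {fst : P ⟶ F} {snd : P ⟶ (pyon S).obj T} {y : G.obj (op T)}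
      (_ : IsPullback fst snd a (uliftYonedaEquiv.{u + 1}.symm y)) {T' : (Over S)ᵒᵖ} (p q : P.obj T'),
      fst.app T' p = fst.app T' q → snd.app T' p = snd.app T' q → p = q := fun sq T' p q h1 h2 =>
    Types.ext_of_isPullback (sq.map ((evaluation _ _).obj T')) h1 h2
  have hsep : ∀ (x x' : F.obj (op T)),
      (∀ ⦃T' : Over S⦄ (φ : T' ⟶ T), R φ → F.map φ.op x = F.map φ.op x') → x = x' := by
    intro x x' e
    have ha : a.app _ x = a.app _ x' := (hG.isSeparated R hR).ext fun T' φ hφ => by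
      rw [← NatTrans.naturality_apply, ← NatTrans.naturality_apply, e φ hφ]
    obtain ⟨P, fst, snd, sq, hP⟩ := key (a.app _ x)
    obtain ⟨p, hp1, hp2⟩ := Types.exists_of_isPullback (sq.map ((evaluation _ _).obj (op T)))
      x ⟨𝟙 T⟩ ((hy _ _).trans (by simp)).symm
    obtain ⟨q, hq1, hq2⟩ := Types.exists_of_isPullback (sq.map ((evaluation _ _).obj (op T)))
      x' ⟨𝟙 T⟩ ((hy _ _).trans (by simp [ha])).symm
    have : p = q := (hP.isSeparated R hR).ext fun T' φ hφ => by
      refine hext sq _ _ ?_ ?_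
      · rw [NatTrans.naturality_apply, NatTrans.naturality_apply]
        exact ((congrArg _ hp1).trans (e φ hφ)).trans (congrArg _ hq1).symm
      · rw [NatTrans.naturality_apply, NatTrans.naturality_apply]
        exact (congrArg _ hp2).trans (congrArg _ hq2).symm
    exact hp1.symm.trans ((congrArg _ this).trans hq1)
  intro x hx
  let xG : Presieve.FamilyOfElements G R.arrows := fun T' φ hφ => a.app _ (x φ hφ)
  have hxG : xG.Compatible := fun Y₁ Y₂ Z g₁ g₂ f₁ f₂ h₁ h₂ w => by
    simp only [xG, ← NatTrans.naturality_apply, hx g₁ g₂ h₁ h₂ w]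
  obtain ⟨y, hyR, -⟩ := hG R hR xG hxG
  obtain ⟨P, fst, snd, sq, hP⟩ := key y
  have lift : ∀ ⦃T' : Over S⦄ (φ : T' ⟶ T) (hφ : R φ), ∃ p : P.obj (op T'),
      fst.app _ p = x φ hφ ∧ snd.app _ p = ⟨φ⟩ := fun T' φ hφ =>
    Types.exists_of_isPullback (sq.map ((evaluation _ _).obj (op T'))) (x φ hφ) ⟨φ⟩
      ((hyR φ hφ).symm.trans (hy y φ).symm)
  choose p hp1 hp2 using lift
  have hpc : Presieve.FamilyOfElements.Compatible (fun T' φ hφ => p φ hφ : Presieve.FamilyOfElements P R.arrows) := by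
    intro Y₁ Y₂ Z g₁ g₂ f₁ f₂ h₁ h₂ w
    refine hext sq _ _ ?_ ?_
    · rw [NatTrans.naturality_apply, NatTrans.naturality_apply, hp1, hp1]
      exact hx g₁ g₂ h₁ h₂ w
    · rw [NatTrans.naturality_apply, NatTrans.naturality_apply, hp2, hp2]
      exact congrArg ULift.up w
  obtain ⟨z, hz, -⟩ := hP R hR _ hpc
  refine ⟨fst.app _ z, fun T' φ hφ => ?_, fun x' hx' => hsep _ _ fun T' φ hφ => ?_⟩
  · rw [← NatTrans.naturality_apply, hz φ hφ, hp1]
  · rw [hx' φ hφ, ← NatTrans.naturality_apply, hz φ hφ, hp1]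

theorem repBySp_of_isPullback {F' G' : PSp S} {a : F ⟶ G} {g : G' ⟶ G} {fst : F' ⟶ F}
    {snd : F' ⟶ G'} (sq : IsPullback fst snd a g) (ha : RepBySp a) : RepBySp snd :=
  fun _ ξ _ fst' snd' sq' => ha (ξ ≫ g) (fst' ≫ fst) snd' (sq'.paste_horiz sq)

instance : (RepBySp (S := S)).IsStableUnderBaseChange :=
  ⟨fun sq h => repBySp_of_isPullback sq h⟩

/-- A sheaf representable by algebraic spaces over an algebraic space is an algebraic space. -/
theorem isAlgSpace_of_repBySp {F G : Sp S} (a : F ⟶ G) (ha : RepBySp a.hom) (hG : IsAlgSpace G) :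
    IsAlgSpace F where
  diag := by
    refine Functor.relativelyRepresentable.diag_of_map_from_obj fun U ξ => ?_
    let q := ξ ≫ a
    have hP : IsAlgSpace (pullback a q) :=
      (repBySp_hom_iff a).1 ha q _ _ (IsPullback.of_hasPullback a q)
    have h1 : Representable (pullback.fst a q) :=
      MorphismProperty.of_isPullback (IsPullback.of_hasPullback a q).flip (hG.representable_from_yon q)
    have e : pullback.lift ξ (𝟙 _) (by simp [q]) ≫ pullback.fst a q = ξ := pullback.lift_fst _ _ _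
    rw [← e]
    exact MorphismProperty.comp_mem _ _ _ (hP.representable_from_yon _) h1
  atlas := by
    obtain ⟨V, b, hb, hb'⟩ := hG.atlas
    have hP : IsAlgSpace (pullback a b) :=
      (repBySp_hom_iff a).1 ha b _ _ (IsPullback.of_hasPullback a b)
    obtain ⟨W, c, hc, hc'⟩ := hP.atlas
    exact ⟨W, c ≫ pullback.fst a b, repWith_comp hc (repWith_fst a hb),
      repWith_comp hc' (repWith_fst a hb')⟩

/-- Presheaf form. -/
theorem isAlgSpaceP_of_repBySp (a : F ⟶ G) (ha : RepBySp a) (hG : IsAlgSpaceP G) : IsAlgSpaceP F := by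
  obtain ⟨hs, hG⟩ := hG
  have hF : Presheaf.IsSheaf (J S) F := isSheaf_of_fibres a hs fun U ξ F' fst snd sq =>
    (ha ξ fst snd sq).1
  exact ⟨hF, isAlgSpace_of_repBySp (ObjectProperty.homMk a : (⟨F, hF⟩ : Sp S) ⟶ ⟨G, hs⟩) ha hG⟩

theorem repBySp_comp {a : F ⟶ G} {b : G ⟶ H} (ha : RepBySp a) (hb : RepBySp b) : RepBySp (a ≫ b) := by
  intro U ξ F' fst snd sq
  have h1 := IsPullback.of_hasPullback b ξ
  have hG' := hb ξ _ _ h1
  let l : F' ⟶ pullback b ξ := pullback.lift (fst ≫ a) snd (by simpa using sq.w)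
  have sq' : IsPullback fst l a (pullback.fst b ξ) := by
    refine IsPullback.of_bot ?_ (by simp [l]) h1
    simpa [l] using sq
  exact isAlgSpaceP_of_repBySp l (repBySp_of_isPullback sq' ha) hG'

instance : (RepBySp (S := S)).IsStableUnderComposition := ⟨fun _ _ => repBySp_comp⟩

end Groth.Agent.AlgSpPts
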