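import Groth.Agent.AlgSpPts.UnivClosed
import Groth.Agent.AlgSpLib.EtLocalInst
import Mathlib.AlgebraicGeometry.Morphisms.Flat

set_option backward.isDefEq.respectTransparency false
set_option backward.isDefEq.respectTransparency.types false

open CategoryTheory Limits Opposite AlgebraicGeometry MorphismProperty AlgSp Groth.Agent.AlgSpLib Topology

namespace Groth.Agent.AlgSpPts

universe u

variable {S : Scheme.{u}} {F G : Sp S}

/-- A flat, quasi-compact, surjective morphism of algebraic spaces is a quotient map on points. -/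
theorem isQuotientMap_map_of_flat (hF : IsAlgSpace F) (hG : IsAlgSpace G) {f : F ⟶ G} (hfl : LocP @Flat f)
    (hqc : IsQuasiCompactMor f) (hs : Function.Surjective (Points.map f)) : IsQuotientMap (Points.map f) := by
  rw [Topology.isQuotientMap_iff]
  refine ⟨Topology.isCoinducing_iff.2 fun W => ⟨fun hW => ?_, fun h => h.preimage (Points.continuous_map f)⟩, hs⟩
  obtain ⟨V, b, hb, hb'⟩ := hG.atlas
  rw [isOpen_iff_chart hb hb', isOpen_iff_forall_mem_open]
  intro v hv
  obtain ⟨O, hO, hvO, -⟩ := exists_isAffineOpen_mem_and_subset (U := (⊤ : V.left.Opens)) (x := v) trivial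
  let Z : Over S := Over.mk (O.ι ≫ V.hom)
  let ιO : Z ⟶ V := Over.homMk O.ι rfl
  let g : (yon S).obj Z ⟶ G := (yon S).map ιO ≫ b
  have hg : RepWith @Etale g := repWith_comp ((repWith_yon_map_iff _ _).2 (inferInstanceAs (Etale O.ι))) hb
  have : IsAffine Z.left := hO
  have sq := IsPullback.of_hasPullback f g
  have hX' : IsAlgSpace (pullback f g) := isAlgSpace_of_isPullback sq hF (IsAlgSpace.yon_obj Z) hG
  obtain ⟨U, a, ha, ha', hU⟩ := hqc (IsAlgSpace.yon_obj Z)
    ((isQuasiCompactSp_yon_iff Z).2 inferInstance) g _ _ sq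
  have : CompactSpace ↥U.left := hU
  obtain ⟨h, hh⟩ := (yon S).map_surjective (a ≫ pullback.snd f g)
  let a' := a ≫ pullback.fst f g
  have w : a' ≫ f = (yon S).map h ≫ g := by rw [Category.assoc, pullback.condition, ← Category.assoc, hh]
  have : Flat h.left := hfl a' g h (repWith_comp ha (repWith_fst f hg)) hg w
  have : QuasiCompact h.left := by
    have h1 : QuasiCompact (h.left ≫ terminal.from Z.left) := by
      rw [terminal.hom_ext (h.left ≫ terminal.from Z.left) (terminal.from U.left)]; infer_instance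
    exact QuasiCompact.of_comp h.left (terminal.from Z.left)
  have : Surjective h.left := ⟨fun z => by
    obtain ⟨x, hx⟩ := hs (Points.ofPt g z)
    obtain ⟨c, -, hc⟩ := exists_point_of_isPullback sq (x := x) (y := Points.ofScheme Z z)
      (by rw [hx, Points.map_ofPt, Category.id_comp])
    obtain ⟨t, rfl⟩ := surjective_ofPt ha' c
    refine ⟨t, (Points.schemeHomeo Z).injective ?_⟩
    rw [Points.map_ofPt, ← hh] at hc
    refine Eq.trans ?_ hc
    have h2 := ofPt_comp h (𝟙 ((yon S).obj Z)) t
    rw [Category.comp_id] at h2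
    exact h2.symm⟩
  have hopen : IsOpen (Points.ofPt g ⁻¹' W) := by
    rw [← (Flat.isQuotientMap_of_surjective h.left).isOpen_preimage]
    have e : h.left ⁻¹' (Points.ofPt g ⁻¹' W) = Points.ofPt a' ⁻¹' (Points.map f ⁻¹' W) := by
      ext t
      change Points.ofPt g (h.left t) ∈ W ↔ Points.map f (Points.ofPt a' t) ∈ W
      rw [Points.map_ofPt, w]
      exact iff_of_eq (congrArg (fun y => y ∈ W) (ofPt_comp h g t).symm)
    rw [e]
    exact hW.preimage (Points.continuous_ofPt a')
  refine ⟨O.ι '' (Points.ofPt g ⁻¹' W), ?_, O.ι.isOpenEmbedding.isOpenMap _ hopen, ⟨⟨v, hvO⟩, ?_, rfl⟩⟩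
  · rintro _ ⟨z, hz, rfl⟩
    change Points.ofPt b (ιO.left z) ∈ W
    rw [← ofPt_comp]
    exact hz
  · change Points.ofPt ((yon S).map ιO ≫ b) _ ∈ W
    rw [ofPt_comp]
    exact hv

theorem isUnivSubmersiveMor_of_flat (hF : IsAlgSpace F) (hG : IsAlgSpace G) {f : F ⟶ G} (hfl : LocP @Flat f)
    (hqc : IsQuasiCompactMor f) (hs : Function.Surjective (Points.map f)) : IsUnivSubmersiveMor f := by
  intro Z Z' hZ g fst snd sq
  exact isQuotientMap_map_of_flat (isAlgSpace_of_isPullback sq hF hZ hG) hZ
    (locP_of_isPullback sq hF hG hZ hfl)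
    (fun W W' hW hW' k fst' snd' sq' => hqc hW hW' (k ≫ g) (fst' ≫ fst) snd' (sq'.paste_horiz sq))
    (surjective_map_of_isPullback sq hs)

end Groth.Agent.AlgSpPts
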